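import Groth.Agent.AlgSt.K741.DiagEq
import Groth.Agent.AlgSt.K741.FlatDesc
import Groth.Agent.AlgSp.K624.DimInt
import Groth.Agent.AlgSp.K605.LimMor
import Groth.Agent.AlgSp.K605.LimImg
import Groth.Agent.S1607
import Groth.Agent.S10533

/-!
# Affine diagonals of stacks with an affine flat cover by a scheme with affine diagonal
-/

set_option autoImplicit false
set_option backward.isDefEq.respectTransparency false
set_option backward.isDefEq.respectTransparency.types false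

universe w'' v'' w' v' w v u

open CategoryTheory CategoryTheory.Limits AlgebraicGeometry Opposite
open AlgSt

namespace K741

/-- the diagonal of a locally Noetherian scheme of dimension at most one is affine -/
theorem isAffineHom_diagonal_of_dim_le_one {X Y : Scheme.{u}} [IsNoetherian X] (hdim : topologicalKrullDim X ≤ 1)
    (f : X ⟶ Y) : IsAffineHom (pullback.diagonal f) := by
  rw [isAffineHom_diagonal_iff]
  intro U _ V₁ _ V₂ _ hV₁ _
  have : IsAffine V₁.toScheme := hV₁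
  have h1 : ∀ x : V₁.toScheme, IsNoetherianRing (V₁.toScheme.presheaf.stalk x) ∧
      ringKrullDim (V₁.toScheme.presheaf.stalk x) ≤ 1 := fun x => by
    refine ⟨inferInstance, ?_⟩
    rw [ringKrullDim_eq_of_ringEquiv (V₁.stalkIso x).commRingCatIsoToRingEquiv]
    exact (K624.DimInt.stalkDim_le_topologicalKrullDim X x.1).trans hdim
  have : IsNoetherian V₁.toScheme := {}
  have : TopologicalSpace.NoetherianSpace V₁.toScheme := inferInstance
  have h2 : IsAffineOpen (V₁.ι ⁻¹ᵁ V₂) := Groth.Agent.S1607.result V₁.toScheme h1 (V₁.ι ⁻¹ᵁ V₂)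
    (TopologicalSpace.NoetherianSpace.isCompact _)
  have h3 := h2.image_of_isOpenImmersion V₁.ι
  rwa [Scheme.Hom.image_preimage_eq_opensRange_inf, Scheme.Opens.opensRange_ι] at h3

variable {S : Scheme.{u}}

theorem isAffineHom_equalizer_ι_left {X Y : Over S} [IsAffineHom (pullback.diagonal Y.hom)] (f g : X ⟶ Y) :
    IsAffineHom (equalizer.ι f g).left := by
  refine MorphismProperty.of_isPullback
    ((Limits.isPullback_equalizer_prod f g).map (Over.forget _)).flip ?_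
  rw [← MorphismProperty.cancel_right_of_respectsIso @IsAffineHom _
    (Over.prodLeftIsoPullback Y Y).hom]
  convert! (inferInstance : IsAffineHom (pullback.diagonal Y.hom))
  ext1 <;> simp [← Over.comp_left]

/-- the inclusion of an equalizer of maps to a scheme with affine diagonal is affine -/
theorem isAffineMor_of_eq {U : Over S} (hU : IsAffineHom (pullback.diagonal U.hom)) {Q E : AlgSp.Sp S} (w : Q ⟶ E)
    (a b : E ⟶ (AlgSp.yon S).obj U) (hw : w ≫ a = w ≫ b)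
    (hl : ∀ ⦃T : AlgSp.Sp S⦄ (p : T ⟶ E), p ≫ a = p ≫ b → ∃ p' : T ⟶ Q, p' ≫ w = p)
    (hm : ∀ ⦃T : AlgSp.Sp S⦄ (p p' : T ⟶ Q), p ≫ w = p' ≫ w → p = p') : AlgSp.IsAffineMor w := by
  intro Z hZ z
  obtain ⟨a', ha'⟩ := (AlgSp.yon S).map_surjective (z ≫ a)
  obtain ⟨b', hb'⟩ := (AlgSp.yon S).map_surjective (z ≫ b)
  have h1 : IsAffineHom (equalizer.ι a' b').left := isAffineHom_equalizer_ι_left a' b'
  obtain ⟨p, hp⟩ := hl ((AlgSp.yon S).map (equalizer.ι a' b') ≫ z) (by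
    rw [Category.assoc, Category.assoc, ← ha', ← hb', ← Functor.map_comp, ← Functor.map_comp, equalizer.condition])
  refine ⟨equalizer a' b', equalizer.ι a' b', p, ⟨⟨hp⟩, ⟨?_⟩⟩, isAffine_of_isAffineHom (equalizer.ι a' b').left⟩
  have hlim : IsLimit ((AlgSp.yon S).mapCone (limit.cone (parallelPair a' b'))) :=
    isLimitOfPreserves (AlgSp.yon S) (limit.isLimit _)
  have key : ∀ {T : AlgSp.Sp S} (f : T ⟶ Q) (g : T ⟶ (AlgSp.yon S).obj Z), f ≫ w = g ≫ z →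
      ∃ k : T ⟶ (AlgSp.yon S).obj (equalizer a' b'), k ≫ (AlgSp.yon S).map (equalizer.ι a' b') = g := by
    intro T f g hfg
    have h2 : g ≫ (AlgSp.yon S).map a' = g ≫ (AlgSp.yon S).map b' := by
      rw [ha', hb', ← Category.assoc, ← Category.assoc, ← hfg, Category.assoc, Category.assoc, hw]
    have hf : IsLimit (Fork.ofι ((AlgSp.yon S).map (equalizer.ι a' b')) (by
      rw [← Functor.map_comp, ← Functor.map_comp, equalizer.condition]) :
        Fork ((AlgSp.yon S).map a') ((AlgSp.yon S).map b')) :=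
      isLimitForkMapOfIsLimit (AlgSp.yon S) (equalizer.condition a' b') (equalizerIsEqualizer a' b')
    exact ⟨Fork.IsLimit.lift hf g h2, Fork.IsLimit.lift_ι' hf g h2⟩
  have hmono : Mono (equalizer.ι a' b') := inferInstance
  have hmono' : Mono ((AlgSp.yon S).map (equalizer.ι a' b')) := inferInstance
  exact PullbackCone.IsLimit.mk _ (fun s => (key s.fst s.snd s.condition).choose)
    (fun s => hm _ _ (by
      rw [Category.assoc, hp, ← Category.assoc, (key s.fst s.snd s.condition).choose_spec]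
      exact s.condition.symm))
    (fun s => (key s.fst s.snd s.condition).choose_spec)
    (fun s m _ h2 => by
      rw [← cancel_mono ((AlgSp.yon S).map (equalizer.ι a' b')), h2]
      exact (key s.fst s.snd s.condition).choose_spec.symm)

/-- affine flat surjective morphisms are fpqc coverings -/
theorem isFpqcCover_single {E G : AlgSp.Sp S} {p : E ⟶ G} (h₁ : AlgSp.LocP @Flat p)
    (hE : AlgSp.IsAlgSpace E) (hG : AlgSp.IsAlgSpace G) (h₂ : AlgSp.IsAffineMor p) (h₃ : AlgSp.IsSurjectiveMor p) :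
    AlgSp.IsFpqcCover (fun _ : PUnit.{u + 1} => E) (fun _ => p) := by
  refine ⟨fun _ => h₁, fun Z hZ h => ?_⟩
  obtain ⟨W, i, fst, sq, hW⟩ := h₂ hZ h
  have h4 : AlgSp.LocP @Flat ((AlgSp.yon S).map i) :=
    (K894.GoodP.good_flat S).bc hE hG (AlgSp.IsAlgSpace.yon_obj W) (AlgSp.IsAlgSpace.yon_obj Z) _ _ _ _ sq h₁
  have h5 : AlgSp.IsSurjectiveMor ((AlgSp.yon S).map i) := surj_bc sq.flip h₃
  have h6 := (surjective_left_iff i).1 h5
  refine ⟨1, fun _ => W, fun _ => i, fun _ => hW, fun _ => locP_yon_left h4, fun z => ⟨0, h6.surj z⟩,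
    fun _ => ⟨PUnit.unit, fst, sq.w⟩⟩

theorem stableBC_affine : K734.Rep.StableBC (AlgSp.IsAffineMor (S := S)) :=
  fun _ _ _ _ _ _ _ _ _ _ _ _ sq h => K605.LimImg.isAffineMor_of_isPullback h sq

theorem isLocalOnBase_affine : AlgSp.IsLocalOnBase AlgSp.IsFppfCover (AlgSp.IsAffineMor (S := S)) :=
  isLocalOnBase_fppf_of_fpqc (Groth.Agent.S10533.result S)

/-- lifting sheaves over `𝒳` to a representable affine flat cover -/
theorem exists_affine_lift {𝒳 : AlgSt.Cat S} (h𝒳 : FibCat.IsFibGrpd 𝒳.p) {U : Over S} (u : FibCat.overCat U ⥤ᵇ 𝒳)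
    (hua : RepByAlgSpWith AlgSp.IsAffineMor u) (huf : RepByAlgSpWith (AlgSp.LocP @Flat) u)
    (hus : RepByAlgSpWith AlgSp.IsSurjectiveMor u) (d : Ch 𝒳) (hd : AlgSp.IsAlgSpace d.F) :
    ∃ (e : Ch 𝒳) (l₁ : e ⟶ d) (l₂ : e ⟶ ofChart u), IsPr l₁ l₂ ∧ AlgSp.IsAlgSpace e.F ∧ AlgSp.IsAffineMor l₁.a ∧
      AlgSp.LocP @Flat l₁.a ∧ AlgSp.IsSurjectiveMor l₁.a := by
  obtain ⟨e, l₁, l₂, he, hea, h1⟩ := rpA_of_repByAlgSpWith stableBC_affine isLocalOnBase_affine h𝒳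
    ((repByAlgSpWith_toOverCat _ _).1 hua) d hd
  have hfr : (AlgSp.LocP (S := S) @Flat).RespectsIso := locP_respectsIso _
  have hsr : (AlgSp.IsSurjectiveMor (S := S)).RespectsIso :=
    MorphismProperty.RespectsIso.mk _ (fun e f hf => surj_comp (surj_of_isIso _) hf)
      (fun e f hf => surj_comp hf (surj_of_isIso _))
  exact ⟨e, l₁, l₂, he, hea, h1, ((rpA_of_repByAlgSpWith (K894.GoodP.good_flat S).bc isLocalOnBase_flat h𝒳
    ((repByAlgSpWith_toOverCat _ _).1 huf)).prop he hd).2, ((rpA_of_repByAlgSpWith stableBC_surj isLocalOnBase_surj h𝒳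
    ((repByAlgSpWith_toOverCat _ _).1 hus)).prop he hd).2⟩

theorem Ch.selfOver_hom_ext {c d : Ch (FibCat.selfOver (Over S))} {m n : c ⟶ d} (h : m.a = n.a) : m = n := by
  obtain ⟨a, α⟩ := m
  obtain ⟨b, β⟩ := n
  obtain rfl : a = b := h
  refine Ch.hom_ext_mk fun o => ?_
  exact (two_cell_fac α o).trans (two_cell_fac β o).symm

theorem repByAlgSpWith_isAffineMor_diag {𝒳 : AlgSt.Cat S} (h𝒳 : FibCat.IsFibGrpd 𝒳.p)
    (hg : RepByAlgSp1 (FibCat.diag (FibCat.toSelf 𝒳)))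
    {U : Over S} (hU : IsAffineHom (pullback.diagonal U.hom)) (u : FibCat.overCat U ⥤ᵇ 𝒳)
    (hua : RepByAlgSpWith AlgSp.IsAffineMor u) (huf : RepByAlgSpWith (AlgSp.LocP @Flat) u)
    (hus : RepByAlgSpWith AlgSp.IsSurjectiveMor u) :
    RepByAlgSpWith AlgSp.IsAffineMor (FibCat.diag (FibCat.toSelf 𝒳)) := by
  have h𝒵 : FibCat.IsFibGrpd (FibCat.selfOver (Over S)).p := K735.Fp.isFibGrpd_selfOver
  have gg := K735.Fp.isFibGrpd_fp h𝒳 h𝒳 h𝒵 (FibCat.toSelf 𝒳) (FibCat.toSelf 𝒳)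
  refine repByAlgSpWith_of_isBC h𝒳 gg fun T t => ?_
  obtain ⟨c, h, hca, hbc, -⟩ := exists_isBC_sp h𝒳 gg hg (d := ⟨(AlgSp.yon S).obj T, t⟩) (AlgSp.IsAlgSpace.yon_obj T)
  refine ⟨c, h, hca, hbc, ?_⟩
  let g : 𝒳 ⥤ᵇ FibCat.selfOver (Over S) := FibCat.toSelf 𝒳
  have heq := isEq_of_isBC hbc
  let d : Ch (FibCat.fp g g) := ⟨(AlgSp.yon S).obj T, t⟩
  let t₁ : Ch 𝒳 := (Ch.push (FibCat.fpFst g g)).obj d
  let t₂ : Ch 𝒳 := (Ch.push (FibCat.fpSnd g g)).obj d
  obtain ⟨e₁, m₁, a₁, -, he₁, hm₁a, hm₁f, hm₁s⟩ := exists_affine_lift h𝒳 u hua huf hus t₁ (AlgSp.IsAlgSpace.yon_obj T)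
  obtain ⟨e₂, m₂, a₂, -, he₂, hm₂a, hm₂f, hm₂s⟩ := exists_affine_lift h𝒳 u hua huf hus (t₂.res m₁.a) he₁
  let v : e₂.F ⟶ e₁.F := m₂.a
  let x₁ : Ch 𝒳 := e₁.res v
  let n₁ : x₁ ⟶ t₁ := e₁.resHom v ≫ m₁
  let n₂ : e₂ ⟶ t₂ := m₂ ≫ t₂.resHom m₁.a
  obtain ⟨γ, hγa, hγ⟩ := Ch.exists_lift h𝒵 ((Ch.push g).map n₂) ((Ch.push g).map n₁ ≫ Ch.fpγ d) (𝟙 e₂.F)
    ((Category.id_comp _).trans (Category.comp_id _).symm)
  obtain ⟨p, k₁, k₂, hp, hpa⟩ := exists_isEq₁ h𝒳 h𝒵 hg (d₁ := x₁) (d₂ := e₂) γ he₂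
  obtain ⟨b, l₁, l₂, hb, hba, hla, -, -⟩ := exists_affine_lift h𝒳 u hua huf hus x₁ he₂
  obtain ⟨w, ⟨hw₁, hw₂⟩, -⟩ := hb p k₁ (k₂ ≫ a₂)
  have hk12 : k₁.a = k₂.a := by
    have := hp.w_a
    rw [hγa] at this
    exact (Category.comp_id _).symm.trans this
  have hwa₁ : w.a ≫ l₁.a = k₁.a := congrArg Ch.Hom.a hw₁
  have hwa₂ : w.a ≫ l₂.a = k₂.a ≫ a₂.a := congrArg Ch.Hom.a hw₂
  have hwA : AlgSp.IsAffineMor w.a := by
    refine isAffineMor_of_eq hU w.a l₂.a (l₁.a ≫ a₂.a) ?_ ?_ ?_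
    · rw [hwa₂, ← Category.assoc, hwa₁, hk12]
    · intro T' q hq
      obtain ⟨j₂, hj₂, hj₂'⟩ := Ch.exists_lift h𝒳 a₂ (b.resHom q ≫ l₂) (q ≫ l₁.a) (by
        rw [Category.assoc]
        exact hq.symm)
      obtain ⟨r, hr₁, hr₂⟩ := hp.exists_lift (b.resHom q ≫ l₁) j₂ (Ch.selfOver_hom_ext (by
        change (q ≫ l₁.a) ≫ γ.a = j₂.a
        rw [hγa, hj₂]
        exact Category.comp_id _))
      refine ⟨r.a, ?_⟩
      have h5 : r ≫ w = b.resHom q := by
        refine hb.hom_ext ?_ ?_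
        · rw [Category.assoc, hw₁, hr₁]
        · rw [Category.assoc, hw₂, ← Category.assoc, hr₂, hj₂']
      exact congrArg Ch.Hom.a h5
    · intro T' q q' hqq
      obtain ⟨s, hs, hs'⟩ := Ch.exists_lift h𝒳 w (p.resHom q ≫ w) q' hqq.symm
      have h6 : s = p.resHom q := by
        have h7 : s ≫ k₁ = p.resHom q ≫ k₁ := by rw [← hw₁, ← Category.assoc, hs', Category.assoc]
        refine hp.hom_ext h7 ?_
        refine Ch.lift_unique h𝒳 a₂ ?_ ?_
        · have h8 := congrArg Ch.Hom.a h7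
          change s.a ≫ k₁.a = q ≫ k₁.a at h8
          change s.a ≫ k₂.a = q ≫ k₂.a
          rw [← hk12, h8]
        · rw [Category.assoc, Category.assoc, ← hw₂, ← Category.assoc, hs', Category.assoc]
      rw [← hs, h6]
      rfl
  have hkA : AlgSp.IsAffineMor k₁.a := by
    rw [← hwa₁]
    exact K605.LimMor.isAffineMor_comp hwA hla
  refine prop_of_isEq_cover (Groth.Agent.S10533.result S) h𝒳 h𝒵 heq hp n₁ n₂ hγ hca (AlgSp.IsAlgSpace.yon_obj T) hpa he₂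
    ?_ hkA
  exact isFpqcCover_single ((K894.GoodP.good_flat S).comp he₂ he₁ (AlgSp.IsAlgSpace.yon_obj T) _ _ hm₂f hm₁f) he₂
    (AlgSp.IsAlgSpace.yon_obj T) (K605.LimMor.isAffineMor_comp hm₂a hm₁a) (surj_comp hm₂s hm₁s)

end K741
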