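import Groth.Agent.S0558
import Mathlib.RingTheory.Flat.TorsionFree
import Mathlib.RingTheory.RegularLocalRing.Defs
import Mathlib.RingTheory.DiscreteValuationRing.TFAE
import Mathlib.RingTheory.Flat.Localization
import Mathlib.AlgebraicGeometry.AffineScheme

/-!
# Over regular rings of dimension at most one submodules of flat modules are flat
-/

set_option autoImplicit false
set_option linter.style.haveILetI false

namespace K741.RP

theorem isBezout_of_regular (R : Type*) [CommRing R] [IsDomain R] [IsRegularLocalRing R] (h : ringKrullDim R ≤ 1) :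
    IsBezout R := by
  have h1 := (IsRegularLocalRing.iff_finrank_cotangentSpace R).1 inferInstance
  have h2 : Module.finrank (IsLocalRing.ResidueField R) (IsLocalRing.CotangentSpace R) ≤ 1 := by
    rw [← h1] at h
    exact_mod_cast h
  haveI : IsPrincipalIdealRing R := ((tfae_of_isNoetherianRing_of_isLocalRing_of_isDomain R).out 0 5).2 h2
  infer_instance

theorem flat_submodule_of_local {R : Type*} [CommRing R] (H : ∀ (P : Ideal R) [P.IsMaximal],
    IsDomain (Localization.AtPrime P) ∧ IsBezout (Localization.AtPrime P)) {K : Type*} [AddCommGroup K] [Module R K]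
    [Module.Flat R K] (L : Submodule R K) : Module.Flat R L := by
  refine Module.flat_of_localized_maximal L fun P _ => ?_
  obtain ⟨h1, h2⟩ := H P
  let j : LocalizedModule P.primeCompl L →ₗ[Localization.AtPrime P] LocalizedModule P.primeCompl K :=
    LocalizedModule.map P.primeCompl L.subtype
  have hj : Function.Injective j := LocalizedModule.map_injective P.primeCompl L.subtype Subtype.val_injective
  have h3 : Module.Flat (Localization.AtPrime P) (LocalizedModule P.primeCompl L) := by
    rw [Module.Flat.flat_iff_torsion_eq_bot_of_isBezout, eq_bot_iff]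
    have h4 : Submodule.torsion (Localization.AtPrime P) (LocalizedModule P.primeCompl K) = ⊥ :=
      Module.Flat.torsion_eq_bot
    rintro x ⟨a, ha⟩
    have h5 : j x ∈ Submodule.torsion (Localization.AtPrime P) (LocalizedModule P.primeCompl K) := by
      refine ⟨a, ?_⟩
      have : j (a • x) = 0 := by rw [ha, map_zero]
      rw [← this]
      exact (j.map_smul (a : Localization.AtPrime P) x).symm
    rw [h4] at h5
    exact hj (h5.trans (map_zero j).symm)
  exact Module.Flat.trans R (Localization.AtPrime P) _

open AlgebraicGeometry in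
/-- regular local rings of dimension at most one at all points -/
theorem flat_submodule_of_stalk {X : Scheme} [IsAffine X] (h : ∀ x : X, IsRegularLocalRing (X.presheaf.stalk x) ∧
    ringKrullDim (X.presheaf.stalk x) ≤ 1) {K : Type*} [AddCommGroup K] [Module Γ(X, ⊤) K]
    [Module.Flat Γ(X, ⊤) K] (L : Submodule Γ(X, ⊤) K) : Module.Flat Γ(X, ⊤) L := by
  refine flat_submodule_of_local (fun P hP => ?_) L
  have hX := isAffineOpen_top X
  let y : PrimeSpectrum Γ(X, ⊤) := ⟨P, hP.isPrime⟩
  have h0 : hX.fromSpec y ∈ (⊤ : X.Opens) := trivial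
  letI := TopCat.Presheaf.algebra_section_stalk X.presheaf ⟨hX.fromSpec y, h0⟩
  haveI h1 : IsLocalization.AtPrime (X.presheaf.stalk (hX.fromSpec y)) P := hX.isLocalization_stalk' y h0
  obtain ⟨h2, h3⟩ := h (hX.fromSpec y)
  let e : (X.presheaf.stalk (hX.fromSpec y)) ≃+* Localization.AtPrime P :=
    (IsLocalization.algEquiv P.primeCompl (X.presheaf.stalk (hX.fromSpec y)) (Localization.AtPrime P)).toRingEquiv
  haveI h4 : IsRegularLocalRing (Localization.AtPrime P) := IsRegularLocalRing.of_ringEquiv e
  haveI h5 : IsDomain (Localization.AtPrime P) := Groth.Agent.S0558.result _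
  exact ⟨h5, isBezout_of_regular _ ((ringKrullDim_eq_of_ringEquiv e).symm.trans_le h3)⟩

end K741.RP
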