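import Groth.Agent.ResProp.K741.AffPD
import Groth.Agent.ResProp.K741.RegFlat
import Groth.Prelude.Def_StMod3

/-!
# Vector bundles on stacks with an affine flat cover by a regular scheme of dimension at most one
-/

set_option autoImplicit false
set_option linter.style.haveILetI false
set_option backward.isDefEq.respectTransparency false
set_option backward.isDefEq.respectTransparency.types false

universe w'' v'' w' v' w v u

open CategoryTheory CategoryTheory.Limits AlgebraicGeometry Opposite StMod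
open K784.PM K784.Geo

namespace K741.RP

variable {S : Scheme.{u}} {𝒳 : BasedCategory.{v, w} (Over S)}

/-- sections over affine opens -/
theorem exists_isBC_open (h𝒳 : FibCat.IsFibGrpd 𝒳.p) (F : QCoh 𝒳) (ξ : 𝒳.obj) {U : (sch 𝒳 ξ).Opens}
    (hU : IsAffineOpen U) :
    ∃ (ζ : (Aff 𝒳).obj) (φ : Γ(sch 𝒳 ξ, U) →+* (fa 𝒳).obj (op ζ)) (ψ : Γ(F.obj.obj ξ, U) →+ (gs F).obj ζ),
      Function.Bijective φ ∧ K784.BC.IsBC φ ψ := by
  haveI := h𝒳
  obtain ⟨ζ, φ, h1, h2⟩ := K908.Fib.exists_restr ξ U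
  haveI hζ : IsAffine (sch 𝒳 ζ) := K908.Fib.isAffine_of_opensRange φ (by rw [h2]; exact hU)
  have h3 := F.property.1 φ rfl
  rw [← Groth.Agent.CohqA.PullbackUniv.isUniv_iff_isIso] at h3
  have q1 : (F.obj.obj ξ).IsQuasicoherent := F.property.2 _
  have h : (⊤ : (sch 𝒳 ζ).Opens) ≤ (bmap 𝒳 φ) ⁻¹ᵁ U := by
    intro x _
    change bmap 𝒳 φ x ∈ U
    rw [← h2]
    exact ⟨x, rfl⟩
  have h4 := Groth.Agent.CohqA.PullbackSections.isBC_secMap (bmap 𝒳 φ) (F.obj.map φ rfl) h3 hU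
    (isAffineOpen_top _) h
  refine ⟨⟨ζ, hζ⟩, _, _, ?_, (isBC_iff _ _).1 h4⟩
  subst h2
  have h5 : (bmap 𝒳 φ).opensRange = (bmap 𝒳 φ) ''ᵁ ⊤ := ((bmap 𝒳 φ).image_top_eq_opensRange).symm
  have h6 : IsIso ((bmap 𝒳 φ).appLE (bmap 𝒳 φ).opensRange ⊤ h) := by
    have h7 : (bmap 𝒳 φ).appLE (bmap 𝒳 φ).opensRange ⊤ h =
      (sch 𝒳 ξ).presheaf.map (eqToHom h5.symm).op ≫ ((bmap 𝒳 φ).appIso ⊤).hom := by
      rw [Scheme.Hom.appIso_hom', Scheme.Hom.map_appLE]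
    rw [h7]
    infer_instance
  exact ConcreteCategory.bijective_of_isIso ((bmap 𝒳 φ).appLE (bmap 𝒳 φ).opensRange ⊤ h)

theorem isFinLocFree_of_aff (h𝒳 : FibCat.IsFibGrpd 𝒳.p) (E : QCoh 𝒳)
    (H : ∀ z : (Aff 𝒳).obj, Module.FinitePresentation ((fa 𝒳).obj (op z)) ((gs E).obj z) ∧
      Module.Flat ((fa 𝒳).obj (op z)) ((gs E).obj z)) (ξ : 𝒳.obj) : FlatMod.IsFinLocFree (E.obj.obj ξ) := by
  have hq : Coh.IsQCoh (E.obj.obj ξ) := E.property.2 ξ
  rw [Groth.Agent.Desc.FinLocFreeSections.isFinLocFree_iff_of_cover hq (fun _ => True) (fun x => by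
    obtain ⟨V, hV, hxV, -⟩ := exists_isAffineOpen_mem_and_subset (X := sch 𝒳 ξ) (x := x) (U := ⊤) (Set.mem_univ x)
    exact ⟨V, trivial, hV, hxV⟩)]
  intro V _ hV
  obtain ⟨ζ, φ, ψ, h1, h2⟩ := exists_isBC_open h𝒳 E ξ hV
  obtain ⟨h3, h4⟩ := H ζ
  have h5 : φ.FaithfullyFlat := RingHom.FaithfullyFlat.of_bijective h1
  exact ⟨fp_of_ff h5 h2, flat_of_ff h5 h2⟩

theorem locFree_of_aff (h𝒳 : FibCat.IsFibGrpd 𝒳.p) (E : QCoh 𝒳)
    (H : ∀ z : (Aff 𝒳).obj, Module.FinitePresentation ((fa 𝒳).obj (op z)) ((gs E).obj z) ∧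
      Module.Flat ((fa 𝒳).obj (op z)) ((gs E).obj z)) : E.obj.IsLocFree ∧ E.obj.IsFinType :=
  ⟨fun ξ => K799.LFree.isLocallyFree_of (isFinLocFree_of_aff h𝒳 E H ξ),
    fun ξ => K799.LFree.isFT_of (isFinLocFree_of_aff h𝒳 E H ξ)⟩

theorem finite_gs (F : QCoh 𝒳) (hF : F.obj.IsFinType) (z : (Aff 𝒳).obj) :
    Module.Finite ((fa 𝒳).obj (op z)) ((gs F).obj z) := by
  have hq : Coh.IsQCoh (F.obj.obj z.obj) := F.property.2 z.obj
  exact Groth.Agent.CohqB.FiniteType2.finite_sections_of_isFT (F.obj.obj z.obj) (hF z.obj)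
    (isAffineOpen_top (sch 𝒳 z.obj))

section PDs

variable {x₀ : (Aff 𝒳).obj} (D : PD (fa 𝒳) x₀)

include D in
theorem fpflat_of_x0 (E : QCoh 𝒳) (h1 : Module.FinitePresentation ((fa 𝒳).obj (op x₀)) ((gs E).obj x₀))
    (h2 : Module.Flat ((fa 𝒳).obj (op x₀)) ((gs E).obj x₀)) (z : (Aff 𝒳).obj) :
    Module.FinitePresentation ((fa 𝒳).obj (op z)) ((gs E).obj z) ∧
      Module.Flat ((fa 𝒳).obj (op z)) ((gs E).obj z) := by
  have h3 := gs_cart E (D.b z)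
  have h4 := gs_cart E (D.π z)
  haveI := h3.finitePresentation
  haveI := flat_of_bc h3
  exact ⟨fp_of_ff (D.ff z) h4, flat_of_ff (D.ff z) h4⟩

/-- the linear map on global sections -/
noncomputable def topLin {F G : QCoh 𝒳} (u : F ⟶ G) (z : (Aff 𝒳).obj) :
    (gs F).obj z →ₗ[(fa 𝒳).obj (op z)] (gs G).obj z := (K908.QHom.restMap u.hom (K908.AMod.ASieve.all 𝒳)).app z

theorem topLin_apply {F G : QCoh 𝒳} (u : F ⟶ G) (z : (Aff 𝒳).obj) (m : (gs F).obj z) :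
    topLin u z m = (u.hom.app z.obj).app ⊤ m := rfl

theorem topLin_map {F G : QCoh 𝒳} (u : F ⟶ G) {x z : (Aff 𝒳).obj} (φ : x ⟶ z) (m : (gs F).obj z) :
    topLin u x ((gs F).map φ m) = (gs G).map φ (topLin u z m) :=
  (K908.QHom.restMap u.hom (K908.AMod.ASieve.all 𝒳)).comm φ m

include D in
theorem isSurj_of_x0 {F G : QCoh 𝒳} (u : F ⟶ G) (h : Function.Surjective (topLin u x₀)) :
    StMod.Mod.IsSurj u.hom := by
  intro ξ hξ
  let z : (Aff 𝒳).obj := ⟨ξ, hξ⟩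
  have h1 := surj_of_bc (gs_cart G (D.b z)) (topLin u x₀) (topLin u (D.w z)) (topLin_map u (D.b z)) h
  exact surj_of_ff (D.ff z) (gs_cart F (D.π z)) (gs_cart G (D.π z)) (topLin u z) (topLin u (D.w z))
    (topLin_map u (D.π z)) h1

include D in
theorem hom_ext_of_x0 (h𝒳 : FibCat.IsFibGrpd 𝒳.p) {F G : QCoh 𝒳} (u v : F ⟶ G)
    (h : ∀ m, topLin u x₀ m = topLin v x₀ m) : u = v := by
  haveI := h𝒳
  apply ObjectProperty.hom_ext
  refine K908.QHom.hom_ext_of_top (C := K908.AMod.ASieve.all 𝒳) K908.Fam.zloc_all fun z m => ?_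
  have h1 : topLin u (D.w z) = topLin v (D.w z) := (gs_cart F (D.b z)).hom_ext fun m => by
    rw [topLin_map, topLin_map, h]
  apply (gs_cart G).flatCart.injective (D.ff z)
  have h2 := topLin_map u (D.π z) m
  have h3 := topLin_map v (D.π z) m
  have h4 : topLin u (D.w z) ((gs F).map (D.π z) m) = topLin v (D.w z) ((gs F).map (D.π z) m) := by rw [h1]
  exact h2.symm.trans (h4.trans h3)

end PDs

/-- products with a cover of `x₁` -/
theorem HasProd.of_cov (h𝒳 : FibCat.IsFibGrpd 𝒳.p) {x₁ x₀ : 𝒳.obj} (H : HasProd x₁) (c : x₀ ⟶ x₁)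
    (hc : IsAffineHom (bmap 𝒳 c)) (hc1 : Flat (bmap 𝒳 c)) (hc2 : Surjective (bmap 𝒳 c)) : HasProd x₀ := by
  intro ξ hξ
  obtain ⟨χ₁, a, b, h1, h2, h3, h4⟩ := H ξ hξ
  obtain ⟨χ, k, l, h⟩ := K906.Grpd.exists_isPullback h𝒳 b c
  have hb := K906.Grpd.isPullback_bmap h𝒳 h
  have hk : IsAffineHom (bmap 𝒳 k) := MorphismProperty.of_isPullback (P := @IsAffineHom) hb.flip hc
  have hk1 : Flat (bmap 𝒳 k) := MorphismProperty.of_isPullback (P := @Flat) hb.flip hc1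
  have hk2 : Surjective (bmap 𝒳 k) := MorphismProperty.of_isPullback (P := @Surjective) hb.flip hc2
  refine ⟨χ, k ≫ a, l, isAffine_of_isAffineHom (bmap 𝒳 k), ?_, ?_, fun χ' a' b' => ?_⟩
  · rw [bmap_comp]
    infer_instance
  · rw [bmap_comp]
    infer_instance
  · obtain ⟨m, ⟨hm1, hm2⟩, -⟩ := h4 χ' a' (b' ≫ c)
    refine ⟨h.lift m b' hm2, ⟨by rw [← Category.assoc, h.lift_fst, hm1], h.lift_snd _ _ _⟩, ?_⟩
    rintro n ⟨hn1, hn2⟩
    refine h.hom_ext ?_ (by rw [h.lift_snd, hn2])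
    rw [h.lift_fst]
    refine (h4 χ' a' (b' ≫ c)).unique ⟨by rw [Category.assoc, hn1], ?_⟩ ⟨hm1, hm2⟩
    rw [Category.assoc, h.w, ← Category.assoc, hn2]

/-- **Main theorem**: sections over the cover come from vector bundles -/
theorem exists_bundle (h𝒳 : FibCat.IsFibGrpd 𝒳.p) {x₀ : (Aff 𝒳).obj} (H : HasProd x₀.obj)
    [IsNoetherianRing ((fa 𝒳).obj (op x₀))]
    (hfl : ∀ (K : Type u) [AddCommGroup K] [Module ((fa 𝒳).obj (op x₀)) K] [Module.Flat ((fa 𝒳).obj (op x₀)) K]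
      (L : Submodule ((fa 𝒳).obj (op x₀)) K), Module.Flat ((fa 𝒳).obj (op x₀)) L)
    (F : QCoh 𝒳) {l : ℕ} (y : Fin l → (gs F).obj x₀) :
    ∃ (E : QCoh 𝒳) (q : E ⟶ F), E.obj.IsLocFree ∧ E.obj.IsFinType ∧ ∀ k, ∃ e, topLin q x₀ e = y k := by
  haveI := h𝒳
  obtain ⟨D⟩ := nonempty_pd h𝒳 H
  obtain ⟨E₀, q₀, h1, h2, h3, h4, h5⟩ := D.exists_fg_flat hfl (gs_cart F) y
  obtain ⟨E, ev, h6, h7⟩ := exists_qcoh h𝒳 H.atlas E₀ (K784.Tr.FC.of_flatCart h1) (fun _ => trivial)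
  have h8 : Function.Bijective (ev x₀ trivial) := h7 x₀ trivial PUnit.unit (𝟙 x₀) (Fl.id x₀)
  let t : K908.QHom.AHom (K908.QSec.rest E.obj (K908.AMod.ASieve.all 𝒳))
      (K908.QSec.rest F.obj (K908.AMod.ASieve.all 𝒳)) :=
    { app := fun z => (q₀ z).comp (ev z trivial)
      comm := fun {x z} φ m => (congrArg (q₀ x) (h6 φ trivial trivial m)).trans (h2 φ (ev z trivial m)) }
  let q : E ⟶ F := ObjectProperty.homMk (K908.QHom.homMk K908.Fam.zloc_all t)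
  have hq : ∀ (z : (Aff 𝒳).obj) (m : (gs E).obj z), topLin q z m = q₀ z (ev z trivial m) := fun z m =>
    K908.QHom.homMk_app K908.Fam.zloc_all t z m
  let e := LinearEquiv.ofBijective (ev x₀ trivial) h8
  haveI h9 : Module.Finite ((fa 𝒳).obj (op x₀)) ((gs E).obj x₀) := Module.Finite.equiv e.symm
  haveI h10 : Module.FinitePresentation ((fa 𝒳).obj (op x₀)) ((gs E).obj x₀) :=
    Module.finitePresentation_of_finite _ _
  haveI h11 : Module.Flat ((fa 𝒳).obj (op x₀)) ((gs E).obj x₀) := Module.Flat.of_linearEquiv e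
  obtain ⟨h12, h13⟩ := locFree_of_aff h𝒳 E (fpflat_of_x0 D E h10 h11)
  refine ⟨E, q, h12, h13, fun k => ?_⟩
  obtain ⟨m, hm⟩ := h5 k
  obtain ⟨m', rfl⟩ := h8.2 m
  exact ⟨m', (hq x₀ m').trans hm⟩

/-- the resolution property -/
theorem main (h𝒳 : FibCat.IsFibGrpd 𝒳.p) {x₀ : (Aff 𝒳).obj} (H : HasProd x₀.obj)
    [IsNoetherianRing ((fa 𝒳).obj (op x₀))]
    (hfl : ∀ (K : Type u) [AddCommGroup K] [Module ((fa 𝒳).obj (op x₀)) K] [Module.Flat ((fa 𝒳).obj (op x₀)) K]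
      (L : Submodule ((fa 𝒳).obj (op x₀)) K), Module.Flat ((fa 𝒳).obj (op x₀)) L) :
    (∀ F : StMod.QCoh 𝒳, F.obj.IsFinType →
        ∃ (E : StMod.QCoh 𝒳) (q : E ⟶ F), E.obj.IsLocFree ∧ E.obj.IsFinType ∧ StMod.Mod.IsSurj q.hom) ∧
      (∀ (M N : StMod.QCoh 𝒳) (a b : M ⟶ N),
        (∀ E : StMod.QCoh 𝒳, E.obj.IsLocFree → E.obj.IsFinType → ∀ φ : E ⟶ M, φ ≫ a = φ ≫ b) → a = b) := by
  obtain ⟨D⟩ := nonempty_pd h𝒳 H
  refine ⟨fun F hF => ?_, fun M N a b hab => ?_⟩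
  · haveI := finite_gs F hF x₀
    obtain ⟨l, y, hy⟩ := Module.Finite.exists_fin (R := (fa 𝒳).obj (op x₀)) (M := (gs F).obj x₀)
    obtain ⟨E, q, h1, h2, h3⟩ := exists_bundle h𝒳 H hfl F y
    refine ⟨E, q, h1, h2, isSurj_of_x0 D q ?_⟩
    rw [← LinearMap.range_eq_top, eq_top_iff, ← hy, Submodule.span_le]
    rintro _ ⟨k, rfl⟩
    exact h3 k
  · refine hom_ext_of_x0 D h𝒳 a b fun m => ?_
    obtain ⟨E, q, h1, h2, h3⟩ := exists_bundle h𝒳 H hfl M (fun _ : Fin 1 => m)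
    obtain ⟨e, he⟩ := h3 0
    have h4 := hab E h1 h2 q
    have h5 : topLin a x₀ (topLin q x₀ e) = topLin b x₀ (topLin q x₀ e) := by
      have h6 : topLin (q ≫ a) x₀ e = topLin (q ≫ b) x₀ e := by rw [h4]
      exact h6
    rw [he] at h5
    exact h5

/-- finite affine covers of schemes with affine diagonal -/
theorem exists_affine_cover (X : Scheme.{u}) [CompactSpace X] (hX : IsAffineHom (pullback.diagonal (terminal.from X))) :
    ∃ (Y : Scheme.{u}) (p : Y ⟶ X), IsAffine Y ∧ Etale p ∧ Surjective p ∧ IsAffineHom p ∧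
      ∀ y : Y, Nonempty (X.presheaf.stalk (p y) ≃+* Y.presheaf.stalk y) := by
  let 𝒰 := X.affineCover.finiteSubcover
  let p : (∐ 𝒰.X) ⟶ X := Sigma.desc 𝒰.f
  have hY : IsAffine (∐ 𝒰.X) := inferInstance
  have hp : Etale p := IsZariskiLocalAtSource.sigmaDesc (P := @Etale) fun i => inferInstance
  have hs : Surjective p := inferInstance
  refine ⟨_, p, hY, hp, hs, ?_, fun y => ?_⟩
  · have h1 : MorphismProperty.HasOfPostcompProperty (@IsAffineHom) (MorphismProperty.diagonal (@IsAffineHom)) :=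
      MorphismProperty.hasOfPostcompProperty_iff_le_diagonal.mpr le_rfl
    refine MorphismProperty.of_postcomp (W := @IsAffineHom) (W' := MorphismProperty.diagonal (@IsAffineHom)) p
      (terminal.from X) hX ?_
    have : IsAffineHom (terminal.from (∐ 𝒰.X)) := inferInstance
    rwa [terminal.comp_from]
  · obtain ⟨i, y', rfl⟩ := (sigmaOpenCover 𝒰.X).exists_eq y
    let j : 𝒰.X i ⟶ ∐ 𝒰.X := Sigma.ι 𝒰.X i
    have h1 : j ≫ p = 𝒰.f i := Sigma.ι_desc _ _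
    have h2 : IsOpenImmersion (j ≫ p) := by rw [h1]; infer_instance
    exact ⟨(asIso ((j ≫ p).stalkMap y')).commRingCatIsoToRingEquiv.trans
      (asIso (j.stalkMap y')).commRingCatIsoToRingEquiv.symm⟩

/-- **The resolution property** -/
theorem resolution (h𝒳 : FibCat.IsFibGrpd 𝒳.p) {U : Over S} [IsNoetherian U.left]
    (hreg : ∀ x : U.left, IsRegularLocalRing (U.left.presheaf.stalk x))
    (hdim : topologicalKrullDim U.left ≤ 1) (u : FibCat.overCat U ⥤ᵇ 𝒳)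
    (hua : AlgSt.RepByAlgSpWith AlgSp.IsAffineMor u) (huf : AlgSt.RepByAlgSpWith (AlgSp.LocP @Flat) u)
    (hus : AlgSt.RepByAlgSpWith AlgSp.IsSurjectiveMor u) :
    (∀ F : StMod.QCoh 𝒳, F.obj.IsFinType →
        ∃ (E : StMod.QCoh 𝒳) (q : E ⟶ F), E.obj.IsLocFree ∧ E.obj.IsFinType ∧ StMod.Mod.IsSurj q.hom) ∧
      (∀ (M N : StMod.QCoh 𝒳) (a b : M ⟶ N),
        (∀ E : StMod.QCoh 𝒳, E.obj.IsLocFree → E.obj.IsFinType → ∀ φ : E ⟶ M, φ ≫ a = φ ≫ b) → a = b) := by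
  haveI hfr : (AlgSp.LocP (S := S) @Flat).RespectsIso := K735.Top.locP_respectsIso _
  haveI hsr : (AlgSp.IsSurjectiveMor (S := S)).RespectsIso :=
    MorphismProperty.RespectsIso.mk _ (fun e f hf => surj_comp (surj_of_isIso _) hf)
      (fun e f hf => surj_comp hf (surj_of_isIso _))
  haveI hir : (AlgSp.IsAffineMor (S := S) ⊓ AlgSp.LocP @Flat).RespectsIso := inferInstance
  have hx : AlgSt.RepByAlgSpWith AFS u := repByAlgSpWith_inf h𝒳 (repByAlgSpWith_inf h𝒳 hua huf) hus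
  have H₁ : HasProd (u.obj (K734.Fib.one U)) := fun ξ hξ => exists_prod h𝒳 hx ξ hξ
  have e₀ : sch 𝒳 (u.obj (K734.Fib.one U)) = U.left :=
    congrArg (fun T : Over S => T.left) (u.w_obj (K734.Fib.one U))
  obtain ⟨hN, hR, hA⟩ : IsNoetherian (sch 𝒳 (u.obj (K734.Fib.one U))) ∧
      (∀ x : sch 𝒳 (u.obj (K734.Fib.one U)), IsRegularLocalRing ((sch 𝒳 (u.obj (K734.Fib.one U))).presheaf.stalk x) ∧
        ringKrullDim ((sch 𝒳 (u.obj (K734.Fib.one U))).presheaf.stalk x) ≤ 1) ∧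
      IsAffineHom (pullback.diagonal (terminal.from (sch 𝒳 (u.obj (K734.Fib.one U))))) := by
    rw [e₀]
    exact ⟨inferInstance, fun x => ⟨hreg x, (K624.DimInt.stalkDim_le_topologicalKrullDim U.left x).trans hdim⟩,
      isAffineHom_diagonal_of_dim_le_one hdim _⟩
  obtain ⟨Y, p, hY, hp1, hp2, hp3, hp4⟩ := exists_affine_cover _ hA
  obtain ⟨y, φ, e, he⟩ := K906.Grpd.exists_lift_sch h𝒳 _ p
  haveI hy : IsAffine (sch 𝒳 y) := IsAffine.of_isIso e.hom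
  have g1 : Etale (bmap 𝒳 φ) := by rw [he]; infer_instance
  have H₀ : HasProd y := H₁.of_cov h𝒳 φ (by rw [he]; infer_instance) (by rw [he]; infer_instance)
    (by rw [he]; infer_instance)
  have g2 : IsLocallyNoetherian (sch 𝒳 y) := LocallyOfFiniteType.isLocallyNoetherian (bmap 𝒳 φ)
  have g3 : ∀ x : sch 𝒳 y, IsRegularLocalRing ((sch 𝒳 y).presheaf.stalk x) ∧
      ringKrullDim ((sch 𝒳 y).presheaf.stalk x) ≤ 1 := fun x => by
    obtain ⟨i⟩ := hp4 (e.hom x)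
    let j : _ ≃+* (sch 𝒳 y).presheaf.stalk x := i.trans (asIso (e.hom.stalkMap x)).commRingCatIsoToRingEquiv
    obtain ⟨h1, h2⟩ := hR (p (e.hom x))
    exact ⟨IsRegularLocalRing.of_ringEquiv j, (ringKrullDim_eq_of_ringEquiv j).symm.trans_le h2⟩
  let x₀ : (Aff 𝒳).obj := ⟨y, hy⟩
  haveI g4 : IsNoetherianRing ((fa 𝒳).obj (op x₀)) :=
    IsLocallyNoetherian.component_noetherian (⟨⊤, isAffineOpen_top (sch 𝒳 y)⟩ : (sch 𝒳 y).affineOpens)
  exact main h𝒳 (x₀ := x₀) H₀ fun K iK iM iF L => @flat_submodule_of_stalk (sch 𝒳 y) hy g3 K iK iM iF L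

end K741.RP
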