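import Groth.Agent.ResProp.K56.DMDefs
import Mathlib.RingTheory.Flat.Equalizer
import Mathlib.RingTheory.Flat.Stability

/-!
# The algebra of one step of the étale dévissage (node CORE of S16912 for Deligne-Mumford stacks)
-/

set_option autoImplicit false
universe u

namespace K741.Core

open K56.DM

/-- The kernel of a surjection between flat modules is flat. -/
theorem flat_ker {R : Type u} [CommRing R] {Y P : Type u} [AddCommGroup Y] [AddCommGroup P]
    [Module R Y] [Module R P] [Module.Flat R Y] [Module.Flat R P] (g : Y →ₗ[R] P)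
    (hg : Function.Surjective g) : Module.Flat R (LinearMap.ker g) := by
  rw [Module.Flat.iff_rTensor_preserves_injective_linearMap]
  intro N N' _ _ _ _ f hf
  have h1 : Function.Injective ((LinearMap.ker g).subtype.lTensor N) :=
    LinearMap.lTensor_injective_of_exact_of_flat g hg _ (LinearMap.ker g).injective_subtype
      (LinearMap.exact_subtype_ker_map g) N
  have h2 : Function.Injective (f.rTensor Y) := Module.Flat.rTensor_preserves_injective_linearMap f hf
  have h3 : ((LinearMap.ker g).subtype.lTensor N').comp (f.rTensor (LinearMap.ker g)) =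
      (f.rTensor Y).comp ((LinearMap.ker g).subtype.lTensor N) := by
    rw [LinearMap.lTensor_comp_rTensor, LinearMap.rTensor_comp_lTensor]
  refine Function.Injective.of_comp (f := (LinearMap.ker g).subtype.lTensor N') ?_
  rw [← LinearMap.coe_comp, h3, LinearMap.coe_comp]
  exact h2.comp h1

/-- **One step of the dévissage.** -/
theorem flat_core {R B : Type u} [CommRing R] [CommRing B] [Algebra R B] [Module.Flat R B]
    {Sg : Type} [Group Sg] [Fintype Sg] [MulSemiringAction Sg B]
    (hR : ∀ (σ : Sg) (r : R), σ • algebraMap R B r = algebraMap R B r)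
    {N N' L : Type u} [AddCommGroup N] [Module R N] [AddCommGroup N'] [Module B N'] [Module R N']
    [IsScalarTower R B N'] [DistribMulAction Sg N']
    (hN : ∀ (σ : Sg) (b : B) (n : N'), σ • (b • n) = (σ • b) • (σ • n))
    (p : N →ₗ[R] N') (hp : ∀ (σ : Sg) n, σ • p n = p n)
    [AddCommGroup L] [Module B L] [Module R L] [IsScalarTower R B L] [Module.Flat B L]
    (lin : L →ₗ[B] N') (hlin : Function.Surjective lin)
    (ε : B) (hε : ε * ε = ε) (hεσ : ∀ σ : Sg, σ • ε = ε)
    (e : B) (he : ε * ∑ σ : Sg, σ • e = ε)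
    (δ : R) (hδ : δ * δ = δ)
    (γ : Sg → B →+* R) (hγ : ∀ ρ r, γ ρ (algebraMap R B r) = r)
    (Γ : Sg → N' →+ N) (hΓ : ∀ ρ (b : B) n, Γ ρ (b • n) = γ ρ b • Γ ρ n)
    (hΓp : ∀ ρ n, Γ ρ (p n) = n) (hΓσ : ∀ ρ σ n, Γ ρ (σ • n) = Γ (ρ * σ) n)
    (c : Sg → B) (hc : ∀ ρ, c ρ * c ρ = c ρ) (hcc : ∀ ρ τ, ρ ≠ τ → c ρ * c τ = 0)
    (hcN : ∀ ρ (n : N'), c ρ • n = c ρ • p (Γ ρ n)) (hγc : ∀ ρ, γ ρ (c ρ) = δ)
    (ε' : B) (hε' : ε' * ε' = ε') (hε'c : ∀ ρ, ε' * c ρ = 0)
    (hsum : ε' + ∑ ρ : Sg, c ρ = algebraMap R B δ * ε)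
    (hε'σ : ∀ σ : Sg, σ • ε' = ε') (hγε' : ∀ ρ, γ ρ ε' = 0)
    (hfl : Module.Flat B (cut ε' N'))
    (G : Submodule R (N × L))
    (hG : ∀ m l, (m, l) ∈ G ↔ ε • p m = ∑ σ : Sg, σ • (ε • lin l)) :
    Module.Flat R (cut δ G) := by
  classical
  -- idempotents
  have hε'δε : ε' * (algebraMap R B δ * ε) = ε' := by
    rw [← hsum, mul_add, hε', Finset.mul_sum, Finset.sum_eq_zero (fun ρ _ => hε'c ρ), add_zero]
  have hδB : algebraMap R B δ * algebraMap R B δ = algebraMap R B δ := by rw [← map_mul, hδ]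
  have hε'ε : ε' * ε = ε' := by
    calc ε' * ε = (ε' * (algebraMap R B δ * ε)) * ε := by rw [hε'δε]
      _ = ε' * (algebraMap R B δ * (ε * ε)) := by ring
      _ = ε' := by rw [hε, hε'δε]
  have hε'δ : ε' * algebraMap R B δ = ε' := by
    calc ε' * algebraMap R B δ = (ε' * (algebraMap R B δ * ε)) * algebraMap R B δ := by rw [hε'δε]
      _ = ε' * ((algebraMap R B δ * algebraMap R B δ) * ε) := by ring
      _ = ε' := by rw [hδB, hε'δε]
  have hcδε : ∀ ρ, c ρ * (algebraMap R B δ * ε) = c ρ := by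
    intro ρ
    rw [← hsum, mul_add, mul_comm (c ρ) ε', hε'c, zero_add, Finset.mul_sum,
      Finset.sum_eq_single ρ (fun τ _ h => hcc ρ τ h.symm) (fun h => absurd (Finset.mem_univ _) h), hc]
  have hcε : ∀ ρ, c ρ * ε = c ρ := by
    intro ρ
    calc c ρ * ε = (c ρ * (algebraMap R B δ * ε)) * ε := by rw [hcδε]
      _ = c ρ * (algebraMap R B δ * (ε * ε)) := by ring
      _ = c ρ := by rw [hε, hcδε]
  -- linear maps
  have hσR : ∀ (σ : Sg) (r : R) (n : N'), σ • (r • n) = r • (σ • n) := by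
    intro σ r n
    rw [← algebraMap_smul B r n, hN, hR, algebraMap_smul]
  let s : L →ₗ[R] N :=
    { toFun := fun l => ∑ τ : Sg, Γ τ (lin l)
      map_add' := fun x y => by simp only [map_add, Finset.sum_add_distrib]
      map_smul' := fun r l => by
        rw [RingHom.id_apply, Finset.smul_sum]
        refine Finset.sum_congr rfl fun τ _ => ?_
        rw [← algebraMap_smul B r l, map_smul, hΓ, hγ] }
  have hs : ∀ l, s l = ∑ τ : Sg, Γ τ (lin l) := fun l => rfl
  let T : N' →ₗ[R] N' :=
    { toFun := fun n => ∑ σ : Sg, σ • n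
      map_add' := fun x y => by simp only [smul_add, Finset.sum_add_distrib]
      map_smul' := fun r n => by
        rw [RingHom.id_apply, Finset.smul_sum]
        exact Finset.sum_congr rfl fun σ _ => hσR σ r n }
  have hT : ∀ n, T n = ∑ σ : Sg, σ • n := fun n => rfl
  have hTσ : ∀ (σ : Sg) n, σ • T n = T n := by
    intro σ n
    rw [hT, Finset.smul_sum]
    exact Fintype.sum_equiv (Equiv.mulLeft σ) _ _ fun τ => by rw [Equiv.coe_mulLeft, mul_smul]
  have hΓT : ∀ ρ l, Γ ρ (T (lin l)) = s l := by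
    intro ρ l
    rw [hT, map_sum, hs]
    exact Fintype.sum_equiv (Equiv.mulLeft ρ) _ _ fun τ => by rw [Equiv.coe_mulLeft, hΓσ]
  have hG' : ∀ m l, (m, l) ∈ G ↔ ε • p m = ε • T (lin l) := by
    intro m l
    rw [hG, hT, Finset.smul_sum]
    have : ∀ σ : Sg, σ • (ε • lin l) = ε • (σ • lin l) := fun σ => by rw [hN, hεσ]
    simp only [this]
  let κ : L →ₗ[R] N' :=
    { toFun := fun l => ε' • (T (lin l) - p (s l))
      map_add' := fun x y => by
        rw [map_add, map_add, map_add, map_add, ← smul_add]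
        congr 1
        abel
      map_smul' := fun r l => by
        rw [RingHom.id_apply, map_smul s, map_smul p, ← algebraMap_smul B r l, map_smul lin,
          algebraMap_smul B r (lin l), map_smul T, ← smul_sub, smul_comm] }
  have hκ : ∀ l, κ l = ε' • (T (lin l) - p (s l)) := fun l => rfl
  -- the invariant part
  let I : Submodule R N' :=
    { carrier := {n | ε' • n = n ∧ ∀ σ : Sg, σ • n = n}
      add_mem' := fun {a b} ha hb => ⟨by rw [smul_add, ha.1, hb.1], fun σ => by rw [smul_add, ha.2, hb.2]⟩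
      zero_mem' := ⟨smul_zero _, fun σ => smul_zero _⟩
      smul_mem' := fun r n hn => ⟨by rw [smul_comm, hn.1], fun σ => by rw [hσR, hn.2]⟩ }
  have hcutR : Module.Flat R (cut ε' N') := Module.Flat.trans R B (cut ε' N')
  have hrI : ∀ n : N', ε' • n = n → (∑ σ : Sg, σ • (e • n)) ∈ I := by
    intro n hn
    refine ⟨?_, fun σ => hTσ σ (e • n)⟩
    rw [Finset.smul_sum]
    refine Finset.sum_congr rfl fun σ _ => ?_
    rw [← hε'σ σ, ← hN, smul_comm ε' e n, hn]
  have hrI' : ∀ n ∈ I, (∑ σ : Sg, σ • (e • n)) = n := by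
    intro n hn
    have h1 : (∑ σ : Sg, σ • (e • n)) = (∑ σ : Sg, σ • e) • n := by
      rw [Finset.sum_smul]
      exact Finset.sum_congr rfl fun σ _ => by rw [hN, hn.2]
    have h2 : ε • n = n := by rw [← hn.1, smul_smul, mul_comm, hε'ε]
    rw [h1]
    conv_lhs => rw [← h2]
    rw [smul_smul, mul_comm, he, h2]
  have hI : Module.Flat R I := by
    let i : I →ₗ[R] cut ε' N' :=
      { toFun := fun n => ⟨n.1, n.2.1⟩
        map_add' := fun _ _ => rfl
        map_smul' := fun _ _ => rfl }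
    let r : cut ε' N' →ₗ[R] I :=
      { toFun := fun n => ⟨∑ σ : Sg, σ • (e • n.1), hrI n.1 n.2⟩
        map_add' := fun a b => Subtype.ext (by
          change ∑ σ : Sg, σ • (e • (a.1 + b.1)) = _ + _
          simp only [smul_add, Finset.sum_add_distrib])
        map_smul' := fun t a => Subtype.ext (by
          change ∑ σ : Sg, σ • (e • (t • a.1)) = t • ∑ σ : Sg, σ • (e • a.1)
          rw [Finset.smul_sum]
          refine Finset.sum_congr rfl fun σ _ => ?_
          rw [smul_comm e t a.1, hσR]) }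
    exact Module.Flat.of_retract i r (LinearMap.ext fun n => Subtype.ext (hrI' n.1 n.2))
  -- the part of `L`
  have hL : Module.Flat R (cut δ L) := by
    have : Module.Flat R L := Module.Flat.trans R B L
    let r : L →ₗ[R] cut δ L :=
      { toFun := fun l => ⟨δ • l, by rw [mem_cut, smul_smul, hδ]⟩
        map_add' := fun a b => Subtype.ext (smul_add _ _ _)
        map_smul' := fun t a => Subtype.ext (smul_comm _ _ _) }
    exact Module.Flat.of_retract (cut δ L).subtype r (LinearMap.ext fun n => Subtype.ext n.2)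
  let κ' : cut δ L →ₗ[R] I :=
    { toFun := fun l => ⟨κ l.1, by
        rw [hκ, smul_smul, hε'], fun σ => by
        rw [hκ, hN, hε'σ, smul_sub, hTσ, hp]⟩
      map_add' := fun a b => Subtype.ext (map_add κ _ _)
      map_smul' := fun t a => Subtype.ext (map_smul κ _ _) }
  have hκ' : Function.Surjective κ' := by
    rintro ⟨n, hn⟩
    obtain ⟨l₀, hl₀⟩ := hlin (e • n)
    have h1 : lin (ε' • l₀) = e • n := by rw [map_smul, hl₀, smul_comm, hn.1]
    have h2 : δ • (ε' • l₀) = ε' • l₀ := by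
      rw [← algebraMap_smul B δ (ε' • l₀), smul_smul, mul_comm, hε'δ]
    have h3 : s (ε' • l₀) = 0 := by
      rw [hs]
      refine Finset.sum_eq_zero fun τ _ => ?_
      rw [map_smul, hΓ, hγε', zero_smul]
    refine ⟨⟨ε' • l₀, h2⟩, Subtype.ext ?_⟩
    change κ (ε' • l₀) = n
    rw [hκ, h3, map_zero, sub_zero, h1, hT, hrI' n hn, hn.1]
  have hker := flat_ker κ' hκ'
  -- comparison
  have F1 : ∀ m l, (m, l) ∈ G → δ • m = m → m = δ • s l := by
    intro m l hml hm
    rw [hG'] at hml
    have h1 : c 1 • p m = c 1 • p (s l) := by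
      rw [← hcε 1, mul_smul, hml, ← mul_smul, hcε 1, hcN 1 (T (lin l)), hΓT]
    have h2 := congrArg (Γ 1) h1
    rw [hΓ, hΓ, hγc, hΓp, hΓp, hm] at h2
    exact h2
  have F2 : ∀ m l, (m, l) ∈ G → δ • m = m → κ l = 0 := by
    intro m l hml hm
    have h1 := F1 m l hml hm
    rw [hG'] at hml
    have h2 : ε' • T (lin l) = ε' • p m := by
      rw [← hε'ε, mul_smul, ← hml, ← mul_smul, hε'ε]
    rw [hκ, smul_sub, h2, h1, map_smul, ← algebraMap_smul B δ (p (s l)), smul_smul, hε'δ, sub_self]
  have F3 : ∀ l, δ • l = l → κ l = 0 → (δ • s l, l) ∈ G := by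
    intro l hl hk
    rw [hG']
    rw [hκ, smul_sub, sub_eq_zero] at hk
    have h1 : algebraMap R B δ • T (lin l) = T (lin l) := by
      rw [algebraMap_smul, ← map_smul T, ← algebraMap_smul B δ (lin l), ← map_smul lin,
        algebraMap_smul, hl]
    calc ε • p (δ • s l) = (algebraMap R B δ * ε) • p (s l) := by
          rw [map_smul, ← algebraMap_smul B δ (p (s l)), smul_smul, mul_comm]
      _ = ε' • p (s l) + ∑ ρ : Sg, c ρ • p (s l) := by rw [← hsum, add_smul, Finset.sum_smul]
      _ = ε' • T (lin l) + ∑ ρ : Sg, c ρ • T (lin l) := by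
          rw [← hk]
          congr 1
          refine Finset.sum_congr rfl fun ρ _ => ?_
          rw [hcN ρ (T (lin l)), hΓT]
      _ = (algebraMap R B δ * ε) • T (lin l) := by rw [← hsum, add_smul, Finset.sum_smul]
      _ = ε • T (lin l) := by rw [mul_comm, mul_smul, h1]
  let i : cut δ G →ₗ[R] LinearMap.ker κ' :=
    { toFun := fun x => ⟨⟨x.1.1.2, congrArg (fun y : G => y.1.2) x.2⟩, Subtype.ext
        (F2 x.1.1.1 x.1.1.2 x.1.2 (congrArg (fun y : G => y.1.1) x.2))⟩
      map_add' := fun _ _ => rfl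
      map_smul' := fun _ _ => rfl }
  let r : LinearMap.ker κ' →ₗ[R] cut δ G :=
    { toFun := fun l => ⟨⟨(δ • s l.1.1, l.1.1), F3 l.1.1 l.1.2 (congrArg Subtype.val l.2)⟩,
        Subtype.ext (Prod.ext (by
          change δ • (δ • s l.1.1) = δ • s l.1.1
          rw [smul_smul, hδ]) l.1.2)⟩
      map_add' := fun a b => Subtype.ext (Subtype.ext (Prod.ext (by
        change δ • s (a.1.1 + b.1.1) = δ • s a.1.1 + δ • s b.1.1
        rw [map_add, smul_add]) rfl))
      map_smul' := fun t a => Subtype.ext (Subtype.ext (Prod.ext (by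
        change δ • s (t • a.1.1) = t • (δ • s a.1.1)
        rw [map_smul, smul_comm]) rfl)) }
  refine Module.Flat.of_retract i r (LinearMap.ext fun x => Subtype.ext (Subtype.ext (Prod.ext ?_ rfl)))
  exact (F1 x.1.1.1 x.1.1.2 x.1.2 (congrArg (fun y : G => y.1.1) x.2)).symm

end K741.Core
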