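import Groth.Agent.ResProp.K741.PDPush
import Groth.Agent.ResProp.K741.AffDiag
import Groth.Agent.StMod.K784.ExtQ
import Groth.Agent.StMod.K906.SpanRep
import Groth.Agent.StMod.K908.Dense
import Groth.Agent.TwSh.K799.LFree
import Groth.Agent.AlgSp.K644.FinAlg
import Mathlib.RingTheory.Flat.FaithfullyFlat.Descent

/-!
# Affine flat covers of stacks and products with the cover
-/

set_option autoImplicit false
set_option linter.style.haveILetI false
set_option backward.isDefEq.respectTransparency false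
set_option backward.isDefEq.respectTransparency.types false

universe w'' v'' w' v' w v u

open CategoryTheory CategoryTheory.Limits AlgebraicGeometry Opposite StMod
open K734.Fib K906.Grpd K606.YonSec

namespace K741

variable {S : Scheme.{u}} {𝒳 : BasedCategory.{v, w} (Over S)}

theorem repByAlgSpWith_inf (h𝒳 : FibCat.IsFibGrpd 𝒳.p) {P Q : MorphismProperty (AlgSp.Sp S)} [P.RespectsIso]
    [Q.RespectsIso] {U : Over S} {x : FibCat.overCat U ⥤ᵇ 𝒳} (h : AlgSt.RepByAlgSpWith P x)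
    (h' : AlgSt.RepByAlgSpWith Q x) : AlgSt.RepByAlgSpWith (P ⊓ Q) x := by
  refine (rp_ofChart_iff h𝒳 (P ⊓ Q) x).2 fun t ht => ?_
  obtain ⟨e, l₁, l₂, hp, he, hP⟩ := (rp_ofChart_iff h𝒳 P x).1 h t ht
  exact ⟨e, l₁, l₂, hp, he, hP, (((rp_ofChart_iff h𝒳 Q x).1 h').prop hp ht).2⟩

theorem isAffineMor_of_isIso {F G : AlgSp.Sp S} (f : F ⟶ G) [IsIso f] : AlgSp.IsAffineMor f := by
  intro Z hZ z
  exact ⟨Z, 𝟙 Z, z ≫ inv f, IsPullback.of_vert_isIso ⟨by simp⟩, hZ⟩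

instance isAffineMor_respectsIso : (AlgSp.IsAffineMor (S := S)).RespectsIso :=
  MorphismProperty.RespectsIso.mk _
    (fun _ _ hf => K605.LimMor.isAffineMor_comp (isAffineMor_of_isIso _) hf)
    (fun _ _ hf => K605.LimMor.isAffineMor_comp hf (isAffineMor_of_isIso _))

/-- affine flat surjective morphisms of algebraic spaces -/
abbrev AFS : MorphismProperty (AlgSp.Sp S) := (AlgSp.IsAffineMor ⊓ AlgSp.LocP @Flat) ⊓ AlgSp.IsSurjectiveMor

/-- products with an affine flat surjective chart -/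
theorem exists_prod (h𝒳 : FibCat.IsFibGrpd 𝒳.p) {U : Over S} {x : FibCat.overCat U ⥤ᵇ 𝒳}
    (hx : AlgSt.RepByAlgSpWith AFS x) (ξ : 𝒳.obj) (hξ : IsAffine (sch 𝒳 ξ)) :
    ∃ (χ : 𝒳.obj) (a : χ ⟶ ξ) (b : χ ⟶ x.obj (one U)), IsAffine (sch 𝒳 χ) ∧ Flat (bmap 𝒳 a) ∧
      Surjective (bmap 𝒳 a) ∧
      ∀ (χ' : 𝒳.obj) (a' : χ' ⟶ ξ) (b' : χ' ⟶ x.obj (one U)), ∃! c : χ' ⟶ χ, c ≫ a = a' ∧ c ≫ b = b' := by
  obtain ⟨F, π, R, ⟨⟨hA, hF⟩, hS⟩, hπ⟩ := K906.Span.exists_spanRep_atlas h𝒳 hx ξ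
  obtain ⟨W, i, fst, hpb, hW⟩ := hA (Z := 𝒳.p.obj ξ) hξ (𝟙 _)
  have : IsIso fst := hpb.isIso_fst_of_isIso
  obtain ⟨χ, a, b, e, hs⟩ := R.surj (sec fst)
  subst e
  have hs' : R.sec a b = sec fst := by simpa using hs
  have h1 : K606.YonSec.ofSec (R.sec a b) = fst := by rw [hs', ofSec_sec]
  have h2 : fst ≫ π = (AlgSp.yon S).map (𝒳.p.map a) := by
    rw [← h1, K606.YonSec.ofSec_comp, hπ, ofSec_up]
  have hfr : (AlgSp.LocP (S := S) @Flat).RespectsIso := K735.Top.locP_respectsIso _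
  refine ⟨χ, a, b, hW, locP_yon_left ?_, (surjective_left_iff _).1 ?_, fun χ' a' b' => ?_⟩
  · rw [← h2]
    exact (MorphismProperty.cancel_left_of_respectsIso (AlgSp.LocP @Flat) fst π).2 hF
  · rw [← h2]
    exact surj_comp (surj_of_isIso _) hS
  · obtain ⟨g, hg⟩ := (AlgSp.yon S).map_surjective (K606.YonSec.ofSec (R.sec a' b') ≫ inv fst)
    have h3 : F.obj.obj.map g.op (R.sec a b) = R.sec a' b' := by
      apply K606.YonSec.ofSec_injective
      rw [← map_comp_ofSec, h1, hg, Category.assoc, IsIso.inv_hom_id, Category.comp_id]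
    obtain ⟨c, hc, h4, h5⟩ := R.full a b a' b' g h3
    refine ⟨c, ⟨h4, h5⟩, ?_⟩
    rintro c' ⟨h6, h7⟩
    refine K906.Grpd.hom_ext h𝒳 a ?_ (h6.trans h4.symm)
    apply (AlgSp.yon S).map_injective
    rw [← cancel_mono fst, ← h1, map_comp_ofSec, map_comp_ofSec, R.map, R.map, h6, h7, h4, h5]

namespace RP

section BC

open K784.BC

variable {A B : Type*} [CommRing A] [CommRing B] {φ : A →+* B} {M M' : Type*} [AddCommGroup M] [Module A M]
  [AddCommGroup M'] [Module B M'] {ψ : M →+ M'}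

theorem flat_of_bc (h : K784.BC.IsBC φ ψ) [Module.Flat A M] : Module.Flat B M' := by
  obtain ⟨h1, h2⟩ := h
  letI := φ.toAlgebra
  letI : Module A M' := Module.compHom M' φ
  haveI : IsScalarTower A B M' := ⟨fun a b m => mul_smul (φ a) b m⟩
  exact Module.Flat.of_linearEquiv h2.equiv.symm

theorem fp_of_ff (hff : φ.FaithfullyFlat) (h : K784.BC.IsBC φ ψ) [Module.FinitePresentation B M'] :
    Module.FinitePresentation A M := by
  obtain ⟨h1, h2⟩ := h
  letI := φ.toAlgebra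
  haveI : Module.FaithfullyFlat A B := hff
  letI : Module A M' := Module.compHom M' φ
  haveI : IsScalarTower A B M' := ⟨fun a b m => mul_smul (φ a) b m⟩
  haveI : Module.FinitePresentation B (TensorProduct A B M) := Module.FinitePresentation.of_equiv h2.equiv.symm
  exact K644.FinAlg.finitePresentation_of_tensorProduct A B M

theorem flat_of_ff (hff : φ.FaithfullyFlat) (h : K784.BC.IsBC φ ψ) [Module.Flat B M'] : Module.Flat A M := by
  obtain ⟨h1, h2⟩ := h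
  letI := φ.toAlgebra
  haveI : Module.FaithfullyFlat A B := hff
  letI : Module A M' := Module.compHom M' φ
  haveI : IsScalarTower A B M' := ⟨fun a b m => mul_smul (φ a) b m⟩
  haveI : Module.Flat B (TensorProduct A B M) := Module.Flat.of_linearEquiv h2.equiv
  exact Module.Flat.of_flat_tensorProduct A M B

theorem surj_of_bc {P P' : Type*} [AddCommGroup P] [Module A P] [AddCommGroup P'] [Module B P'] {θ : P →+ P'}
    (h' : K784.BC.IsBC φ θ) (f : M →ₗ[A] P) (f' : M' →ₗ[B] P') (hf : ∀ m, f' (ψ m) = θ (f m))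
    (hs : Function.Surjective f) : Function.Surjective f' := by
  rw [← LinearMap.range_eq_top, eq_top_iff, ← h'.span_range, Submodule.span_le]
  rintro _ ⟨p, rfl⟩
  obtain ⟨m, rfl⟩ := hs p
  exact ⟨ψ m, hf m⟩

theorem surj_of_ff (hff : φ.FaithfullyFlat) (h : K784.BC.IsBC φ ψ) {P P' : Type*} [AddCommGroup P] [Module A P]
    [AddCommGroup P'] [Module B P'] {θ : P →+ P'} (h' : K784.BC.IsBC φ θ) (f : M →ₗ[A] P) (f' : M' →ₗ[B] P')
    (hf : ∀ m, f' (ψ m) = θ (f m)) (hs : Function.Surjective f') : Function.Surjective f := by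
  have h1 : Submodule.span B (θ '' (LinearMap.range f : Set P)) = ⊤ := by
    rw [eq_top_iff]
    rintro x -
    obtain ⟨y, rfl⟩ := hs x
    induction y using h.induction with
    | zero => rw [map_zero]; exact Submodule.zero_mem _
    | map m => rw [hf]; exact Submodule.subset_span ⟨f m, ⟨m, rfl⟩, rfl⟩
    | smul b n hn => rw [map_smul]; exact Submodule.smul_mem _ _ hn
    | add x y hx hy => rw [map_add]; exact Submodule.add_mem _ hx hy
  let g : P ⧸ LinearMap.range f →+ P' ⧸ (⊤ : Submodule B P') :=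
    QuotientAddGroup.map (LinearMap.range f).toAddSubgroup (⊤ : Submodule B P').toAddSubgroup θ fun _ _ => trivial
  have h2 : K784.BC.IsBC φ g := isBC_quot h' (LinearMap.range f) ⊤ h1.symm g fun _ => rfl
  have h3 := h2.injective hff
  intro p
  have h4 : g (Submodule.Quotient.mk p) = g 0 := (Submodule.Quotient.eq ⊤).2 trivial
  exact (Submodule.Quotient.mk_eq_zero _).1 (h3 h4)

end BC

open K784.PM K784.Geo

/-- products with `x₀` of affine objects, affine flat and surjective -/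
def HasProd (x₀ : 𝒳.obj) : Prop :=
  ∀ ξ : 𝒳.obj, IsAffine (sch 𝒳 ξ) → ∃ (χ : 𝒳.obj) (a : χ ⟶ ξ) (b : χ ⟶ x₀), IsAffine (sch 𝒳 χ) ∧
      Flat (bmap 𝒳 a) ∧ Surjective (bmap 𝒳 a) ∧
      ∀ (χ' : 𝒳.obj) (a' : χ' ⟶ ξ) (b' : χ' ⟶ x₀), ∃! c : χ' ⟶ χ, c ≫ a = a' ∧ c ≫ b = b'

/-- products in the category of affine objects -/
theorem nonempty_pd (h𝒳 : FibCat.IsFibGrpd 𝒳.p) {x₀ : (Aff 𝒳).obj} (H : HasProd x₀.obj) :
    Nonempty (PD (fa 𝒳) x₀) := by
  haveI := h𝒳
  choose w a b h1 h2 h3 h4 using fun z : (Aff 𝒳).obj => H z.obj z.property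
  let W : (Aff 𝒳).obj → (Aff 𝒳).obj := fun z => ⟨w z, h1 z⟩
  let π : ∀ z, W z ⟶ z := fun z => ObjectProperty.homMk (a z)
  let β : ∀ z, W z ⟶ x₀ := fun z => ObjectProperty.homMk (b z)
  have hu : ∀ {y z : (Aff 𝒳).obj} {l l' : y ⟶ W z}, l ≫ π z = l' ≫ π z → l ≫ β z = l' ≫ β z → l = l' := by
    intro y z l l' h5 h6
    exact ObjectProperty.hom_ext _ ((h4 z y.obj (l'.hom ≫ a z) (l'.hom ≫ b z)).unique
      ⟨congrArg (fun t => t.hom) h5, congrArg (fun t => t.hom) h6⟩ ⟨rfl, rfl⟩)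
  refine ⟨{
    w := W
    π := π
    b := β
    lift := fun {y z} f g => ObjectProperty.homMk (h4 z y.obj f.hom g.hom).choose
    lift_π := fun {y z} f g => ObjectProperty.hom_ext _ (h4 z y.obj f.hom g.hom).choose_spec.1.1
    lift_b := fun {y z} f g => ObjectProperty.hom_ext _ (h4 z y.obj f.hom g.hom).choose_spec.1.2
    ext := hu
    ff := fun z => (ff_iff _).2 ⟨h2 z, h3 z⟩
    po := fun {x z} φ ψ h5 h6 => ?_ }⟩
  have h7 : IsPullback (a x) ψ.hom φ.hom (a z) := by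
    have e5 : ψ.hom ≫ a z = a x ≫ φ.hom := congrArg (fun t => t.hom) h5
    have e6 : ψ.hom ≫ b z = b x := congrArg (fun t => t.hom) h6
    refine ⟨⟨e5.symm⟩, ⟨PullbackCone.IsLimit.mk _ (fun s => (h4 x s.pt s.fst (s.snd ≫ b z)).choose) (fun s => ?_)
      (fun s => ?_) (fun s m hm1 hm2 => ?_)⟩⟩
    · exact (h4 x s.pt s.fst (s.snd ≫ b z)).choose_spec.1.1
    · have h8 := (h4 x s.pt s.fst (s.snd ≫ b z)).choose_spec.1
      refine (h4 z s.pt (s.snd ≫ a z) (s.snd ≫ b z)).unique ⟨?_, ?_⟩ ⟨rfl, rfl⟩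
      · rw [Category.assoc, e5, ← Category.assoc, h8.1]
        exact s.condition
      · rw [Category.assoc, e6, h8.2]
    · refine (h4 x s.pt s.fst (s.snd ≫ b z)).unique ⟨hm1, ?_⟩ (h4 x s.pt s.fst (s.snd ≫ b z)).choose_spec.1
      rw [← e6, ← Category.assoc, hm2]
  exact K908.Desc.isPushout_of_isPullback h7 z.property x.property (W z).property

/-- the atlas with one object -/
def HasProd.atlas {x₀ : (Aff 𝒳).obj} (H : HasProd x₀.obj) : FAtlas.{0} 𝒳 where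
  J := PUnit
  Z _ := x₀
  cov z := by
    obtain ⟨χ, a, b, h1, h2, h3, -⟩ := H z.obj z.property
    exact ⟨⟨χ, h1⟩, ObjectProperty.homMk a, PUnit.unit, ObjectProperty.homMk b, ⟨h2, h3⟩⟩
  span z {i j} f g := by
    obtain ⟨χ, a, b, h1, h2, h3, h4⟩ := H x₀.obj x₀.property
    obtain ⟨c, ⟨hc1, hc2⟩, -⟩ := h4 z.obj f.hom g.hom
    obtain ⟨σ, ⟨hσ1, hσ2⟩, -⟩ := h4 χ b a
    have hσσ : σ ≫ σ = 𝟙 χ := (h4 χ a b).unique
      ⟨by rw [Category.assoc, hσ1, hσ2], by rw [Category.assoc, hσ2, hσ1]⟩ ⟨Category.id_comp _, Category.id_comp _⟩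
    have hσi : IsIso (bmap 𝒳 σ) := ⟨bmap 𝒳 σ, by rw [← bmap_comp, hσσ, bmap_id], by rw [← bmap_comp, hσσ, bmap_id]⟩
    have hb : Flat (bmap 𝒳 b) := by
      rw [← hσ1, bmap_comp]
      infer_instance
    refine ⟨z, ⟨χ, h1⟩, 𝟙 z, ObjectProperty.homMk a, ObjectProperty.homMk b, ObjectProperty.homMk c, ?_, ?_, h2, hb,
      ?_, ?_⟩
    · have : bmap 𝒳 (𝟙 z.obj) = 𝟙 _ := bmap_id z.obj
      exact ⟨by change Flat (bmap 𝒳 (𝟙 z.obj)); rw [this]; infer_instance,
        by change Surjective (bmap 𝒳 (𝟙 z.obj)); rw [this]; infer_instance⟩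
    · intro ζ x y
      obtain ⟨k, ⟨hk1, hk2⟩, hk⟩ := h4 ζ x y
      refine ⟨ζ, k, 𝟙 ζ, ⟨by rw [Category.id_comp]; exact hk1, by rw [Category.id_comp]; exact hk2,
        fun k' l' e1 e2 => ⟨l', ⟨?_, Category.comp_id _⟩, ?_⟩⟩, ?_⟩
      · exact (h4 _ (l' ≫ x) (l' ≫ y)).unique ⟨by rw [Category.assoc, hk1], by rw [Category.assoc, hk2]⟩ ⟨e1, e2⟩
      · rintro u ⟨-, hu⟩
        rw [← hu, Category.comp_id]
      · rw [show bmap 𝒳 (𝟙 ζ) = 𝟙 _ from bmap_id ζ]
        infer_instance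
    · exact ObjectProperty.hom_ext _ (hc1.trans (Category.id_comp _).symm)
    · exact ObjectProperty.hom_ext _ (hc2.trans (Category.id_comp _).symm)

end RP

end K741
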