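import Mathlib.RingTheory.Invariant.Basic
import Mathlib.RingTheory.Ideal.GoingUp
import Mathlib.LinearAlgebra.LinearIndependent.Basic

/-!
# Free actions of finite groups: elements of trace one (Chase-Harrison-Rosenberg)
-/

set_option autoImplicit false
universe u v

namespace K741.Chr

variable {B : Type u} [CommRing B] {G : Type v} [Group G] [Fintype G] [MulSemiringAction G B]

/-- The sum over the orbit, as an element of the ring of invariants. -/
noncomputable def tr (b : B) : FixedPoints.subring B G :=
  ⟨∑ g : G, g • b, fun h => by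
    rw [Finset.smul_sum]
    exact Fintype.sum_equiv (Equiv.mulLeft h) _ _ fun g => by rw [Equiv.coe_mulLeft, mul_smul]⟩

theorem coe_tr (b : B) : ((tr b : FixedPoints.subring B G) : B) = ∑ g : G, g • b := rfl

/-- The trace as a linear map over the invariants. -/
noncomputable def trL : B →ₗ[FixedPoints.subring B G] FixedPoints.subring B G where
  toFun := tr
  map_add' x y := Subtype.ext (by simp [coe_tr, Finset.sum_add_distrib])
  map_smul' a x := Subtype.ext (by
    rw [coe_tr, RingHom.id_apply, smul_eq_mul, Subring.coe_mul, coe_tr, Finset.mul_sum]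
    refine Finset.sum_congr rfl fun g _ => ?_
    rw [Algebra.smul_def, smul_mul']
    congr 1
    exact a.2 g)

/-- If a finite group acts on a ring `B` so that no nontrivial element fixes a point of `Spec B` together with
its residue field, then `B` has an element of trace one. -/
theorem exists_sum_smul_eq_one
    (h : ∀ g : G, g ≠ 1 → Ideal.span (Set.range fun b : B => g • b - b) = ⊤) :
    ∃ b : B, ∑ g : G, g • b = 1 := by
  let A := FixedPoints.subring B G
  have hinv : Algebra.IsInvariant A B G := ⟨fun b hb => ⟨⟨b, hb⟩, rfl⟩⟩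
  have hint : Algebra.IsIntegral A B := Algebra.IsInvariant.isIntegral A B G
  have hmap : Ideal.map (algebraMap A B) (LinearMap.range (trL (B := B) (G := G))) = ⊤ := by
    by_contra hne
    obtain ⟨n, hn, hle⟩ := Ideal.exists_le_maximal _ hne
    let _ := Ideal.Quotient.field n
    let χ : G → (B →* (B ⧸ n)) := fun g =>
      ((Ideal.Quotient.mk n : B →+* B ⧸ n) : B →* B ⧸ n).comp
        ((MulSemiringAction.toRingHom G B g : B →+* B) : B →* B)
    have hχ (g : G) (b : B) : χ g b = Ideal.Quotient.mk n (g • b) := rfl
    have hinj : Function.Injective χ := by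
      intro g g' hgg
      by_contra hne'
      have hspan := h (g * g'⁻¹) fun h1 => hne' (mul_inv_eq_one.mp h1)
      refine hn.ne_top (top_le_iff.mp (hspan ▸ ?_))
      rw [Ideal.span_le]
      rintro _ ⟨b, rfl⟩
      have := DFunLike.congr_fun hgg (g'⁻¹ • b)
      rw [hχ, hχ, ← mul_smul, smul_inv_smul, Ideal.Quotient.mk_eq_mk_iff_sub_mem] at this
      exact this
    have hli := (linearIndependent_monoidHom B (B ⧸ n)).comp χ hinj
    rw [Fintype.linearIndependent_iff] at hli
    refine one_ne_zero (α := B ⧸ n) (hli (fun _ => 1) ?_ 1)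
    funext b
    simp only [one_smul, Finset.sum_apply, Function.comp_apply, hχ, Pi.zero_apply]
    rw [← map_sum, Ideal.Quotient.eq_zero_iff_mem]
    have hb : trL b ∈ LinearMap.range (trL (B := B) (G := G)) := ⟨b, rfl⟩
    exact hle (Ideal.mem_map_of_mem (algebraMap A B) hb)
  rw [Ideal.map_eq_top_iff (algebraMap A B) Subtype.coe_injective
    (algebraMap_isIntegral_iff.mpr hint), Ideal.eq_top_iff_one] at hmap
  obtain ⟨b, hb⟩ := hmap
  exact ⟨b, congrArg Subtype.val hb⟩

end K741.Chr
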