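import Groth.Agent.StMod.K784.PM
import Groth.Agent.StMod.K784.BC3

/-!
# Coherent submodules of quasi-coherent modules, abstractly

`PD A x₀` : products with `x₀` in a category with a presheaf of rings `A` (affine flat cover).
`subN` : the largest submodule of `G` whose value at `x₀` is contained in `N`.
-/

set_option autoImplicit false
set_option backward.isDefEq.respectTransparency false
set_option backward.isDefEq.respectTransparency.types false
set_option linter.style.haveILetI false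
set_option linter.dupNamespace false
set_option linter.unusedSectionVars false

open CategoryTheory Opposite

namespace K741.RP

open K784.BC K784.PM

universe w₂ w₁ v₁ u₁ u

section BC

variable {A B : Type*} [CommRing A] [CommRing B]

theorem isBC_prod {φ : A →+* B} {M N M' N' : Type*} [AddCommGroup M] [Module A M] [AddCommGroup N] [Module B N]
    [AddCommGroup M'] [Module A M'] [AddCommGroup N'] [Module B N'] {f : M →+ N} {f' : M' →+ N'} (hf : IsBC φ f)
    (hf' : IsBC φ f') : IsBC φ (f.prodMap f') := by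
  refine IsBC.of_lift (fun a m => Prod.ext (hf.map_smul _ _) (hf'.map_smul _ _)) fun Q _ _ g hg => ?_
  obtain ⟨g₁, h1, h1'⟩ := hf.existsUnique_lift (g.comp (AddMonoidHom.inl M M')) (fun a m => by
    change g (a • m, 0) = φ a • g (m, 0)
    rw [← hg, Prod.smul_mk, smul_zero])
  obtain ⟨g₂, h2, h2'⟩ := hf'.existsUnique_lift (g.comp (AddMonoidHom.inr M M')) (fun a m => by
    change g (0, a • m) = φ a • g (0, m)
    rw [← hg, Prod.smul_mk, smul_zero])
  refine ⟨g₁.coprod g₂, fun m => ?_, fun g' hg' => ?_⟩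
  · change g₁ (f m.1) + g₂ (f' m.2) = g m
    rw [h1, h2]
    change g (m.1, 0) + g (0, m.2) = g m
    rw [← map_add, Prod.mk_add_mk, add_zero, zero_add]
  · have e1 : g'.comp (LinearMap.inl B N N') = g₁ := h1' _ fun m => by
      change g' (f m, 0) = g (m, 0)
      rw [← hg']
      change _ = g' (f m, f' 0)
      rw [map_zero]
    have e2 : g'.comp (LinearMap.inr B N N') = g₂ := h2' _ fun m => by
      change g' (0, f' m) = g (0, m)
      rw [← hg']
      change _ = g' (f 0, f' m)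
      rw [map_zero]
    rw [← e1, ← e2]
    exact (LinearMap.coprod_comp_inl_inr g').symm

theorem isBC_pi {φ : A →+* B} {M N : Type*} [AddCommGroup M] [Module A M] [AddCommGroup N] [Module B N]
    {f : M →+ N} (hf : IsBC φ f) (n : ℕ) {F : (Fin n → M) →+ (Fin n → N)} (hF : ∀ m i, F m i = f (m i)) : IsBC φ F := by
  refine IsBC.of_lift (fun a m => funext fun i => ?_) fun Q _ _ g hg => ?_
  · rw [hF, Pi.smul_apply, Pi.smul_apply, hf.map_smul, hF]
  · have h0 : ∀ i : Fin n, ∃! g' : N →ₗ[B] Q, ∀ m, g' (f m) = g (Pi.single i m) := fun i =>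
      hf.existsUnique_lift (g.comp (AddMonoidHom.single (fun _ : Fin n => M) i)) (fun a m => by
        change g (Pi.single i (a • m)) = φ a • g (Pi.single i m)
        rw [← hg, ← Pi.single_smul])
    choose g' h1 h2 using h0
    refine ⟨∑ i, (g' i).comp (LinearMap.proj i), fun m => ?_, fun g'' hg'' => ?_⟩
    · rw [LinearMap.sum_apply]
      have e1 : ∀ i, ((g' i).comp (LinearMap.proj i)) (F m) = g (Pi.single i (m i)) := fun i => by
        rw [LinearMap.comp_apply, LinearMap.proj_apply, hF]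
        exact h1 i (m i)
      rw [Finset.sum_congr rfl fun i _ => e1 i, ← map_sum, Finset.univ_sum_single]
    · have e2 : ∀ i, g''.comp (LinearMap.single B (fun _ : Fin n => N) i) = g' i := fun i => h2 i _ fun m => by
        change g'' (Pi.single i (f m)) = g (Pi.single i m)
        rw [← hg'']
        congr 1
        ext j
        rw [hF]
        rcases eq_or_ne j i with rfl | h
        · rw [Pi.single_eq_same, Pi.single_eq_same]
        · rw [Pi.single_eq_of_ne h, Pi.single_eq_of_ne h, map_zero]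
      refine LinearMap.ext fun x => ?_
      rw [LinearMap.sum_apply]
      conv_lhs => rw [← Finset.univ_sum_single x]
      rw [map_sum]
      refine Finset.sum_congr rfl fun i _ => ?_
      rw [← e2 i]
      rfl

theorem isBC_self (φ : A →+* B) : IsBC φ φ.toAddMonoidHom := by
  refine IsBC.of_lift (fun a m => φ.map_mul a m) fun Q _ _ g hg => ?_
  refine ⟨LinearMap.toSpanSingleton B Q (g 1), fun m => ?_, fun g' hg' => ?_⟩
  · change φ m • g 1 = g m
    rw [← hg, smul_eq_mul, mul_one]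
  · refine LinearMap.ext_ring ?_
    have h1 := hg' 1
    change g' (φ 1) = g 1 at h1
    rw [map_one] at h1
    rw [h1, LinearMap.toSpanSingleton_apply, one_smul]

theorem isBC_quot {φ : A →+* B} {M M₁ : Type*} [AddCommGroup M] [Module A M] [AddCommGroup M₁] [Module B M₁]
    {f : M →+ M₁} (hf : IsBC φ f) (N : Submodule A M) (L : Submodule B M₁) (hL : L = Submodule.span B (f '' N))
    (g : M ⧸ N →+ M₁ ⧸ L) (hg : ∀ x, g (Submodule.Quotient.mk x) = Submodule.Quotient.mk (f x)) : IsBC φ g := by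
  refine IsBC.of_lift (fun a m => ?_) fun Q _ _ h hh => ?_
  · induction m using Submodule.Quotient.induction_on with
    | H x => rw [← Submodule.Quotient.mk_smul, hg, hg, hf.map_smul, Submodule.Quotient.mk_smul]
  · obtain ⟨h', h1, h2⟩ := hf.existsUnique_lift (h.comp N.mkQ.toAddMonoidHom) (fun a m => by
      change h (Submodule.Quotient.mk (a • m)) = φ a • h (Submodule.Quotient.mk m)
      rw [Submodule.Quotient.mk_smul, hh])
    have h3 : L ≤ LinearMap.ker h' := by
      rw [hL, Submodule.span_le]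
      rintro _ ⟨x, hx, rfl⟩
      change h' (f x) = 0
      rw [h1]
      change h (Submodule.Quotient.mk x) = 0
      rw [(Submodule.Quotient.mk_eq_zero N).2 hx, map_zero]
    refine ⟨L.liftQ h' h3, fun m => ?_, fun h'' hh'' => ?_⟩
    · induction m using Submodule.Quotient.induction_on with
      | H x =>
        rw [hg]
        exact h1 x
    · have h4 : h''.comp L.mkQ = h' := h2 _ fun m => by
        change h'' (Submodule.Quotient.mk (f m)) = h (Submodule.Quotient.mk m)
        rw [← hg, hh'']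
      refine Submodule.linearMap_qext _ ?_
      rw [h4, Submodule.liftQ_mkQ]

/-- elements of the span of the image lie in the span of the image of a finitely generated submodule -/
theorem exists_fg_of_mem_span {M M₁ : Type*} [AddCommGroup M] [Module A M] [AddCommGroup M₁] [Module B M₁]
    (f : M →+ M₁) (N : Submodule A M) {x : M₁} (hx : x ∈ Submodule.span B (f '' N)) :
    ∃ N' : Submodule A M, N' ≤ N ∧ N'.FG ∧ x ∈ Submodule.span B (f '' N') := by
  induction hx using Submodule.span_induction with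
  | mem x h =>
    obtain ⟨m, hm, rfl⟩ := h
    exact ⟨Submodule.span A {m}, (Submodule.span_singleton_le_iff_mem _ _).2 hm, Submodule.fg_span_singleton m,
      Submodule.subset_span ⟨m, Submodule.mem_span_singleton_self m, rfl⟩⟩
  | zero => exact ⟨⊥, bot_le, Submodule.fg_bot, Submodule.zero_mem _⟩
  | add x y _ _ hx hy =>
    obtain ⟨N₁, h1, h2, h3⟩ := hx
    obtain ⟨N₂, g1, g2, g3⟩ := hy
    refine ⟨N₁ ⊔ N₂, sup_le h1 g1, h2.sup g2, Submodule.add_mem _ ?_ ?_⟩
    · exact Submodule.span_mono (Set.image_mono (SetLike.coe_subset_coe.2 le_sup_left)) h3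
    · exact Submodule.span_mono (Set.image_mono (SetLike.coe_subset_coe.2 le_sup_right)) g3
  | smul a x _ hx =>
    obtain ⟨N₁, h1, h2, h3⟩ := hx
    exact ⟨N₁, h1, h2, Submodule.smul_mem _ a h3⟩

theorem exists_fg_of_mem_span_family {M M₁ : Type*} [AddCommGroup M] [Module A M] [AddCommGroup M₁] [Module B M₁]
    (f : M →+ M₁) (N : Submodule A M) {l : ℕ} (x : Fin l → M₁) (hx : ∀ k, x k ∈ Submodule.span B (f '' N)) :
    ∃ N' : Submodule A M, N' ≤ N ∧ N'.FG ∧ ∀ k, x k ∈ Submodule.span B (f '' N') := by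
  choose N' h1 h2 h3 using fun k => exists_fg_of_mem_span f N (hx k)
  refine ⟨⨆ k, N' k, iSup_le h1, Submodule.fg_iSup _ h2, fun k => ?_⟩
  exact Submodule.span_mono (Set.image_mono (SetLike.coe_subset_coe.2 (le_iSup N' k))) (h3 k)

theorem span_image_span {M₁ M₂ : Type*} {C : Type*} [CommRing C] [AddCommGroup M₁] [Module B M₁]
    [AddCommGroup M₂] [Module C M₂] {ψ : B →+* C} (g : M₁ →+ M₂) (hg : ∀ (b : B) (m : M₁), g (b • m) = ψ b • g m)
    (s : Set M₁) : Submodule.span C (g '' (Submodule.span B s : Submodule B M₁)) = Submodule.span C (g '' s) := by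
  apply le_antisymm
  · rw [Submodule.span_le]
    rintro _ ⟨x, hx, rfl⟩
    change g x ∈ Submodule.span C (g '' s)
    induction hx using Submodule.span_induction with
    | mem x h => exact Submodule.subset_span ⟨x, h, rfl⟩
    | zero => rw [map_zero]; exact Submodule.zero_mem _
    | add x y _ _ hx hy => rw [map_add]; exact Submodule.add_mem _ hx hy
    | smul b x _ hx => rw [hg]; exact Submodule.smul_mem _ _ hx
  · exact Submodule.span_mono (Set.image_mono Submodule.subset_span)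

end BC

section PMs

variable {𝒞 : Type u₁} [Category.{v₁} 𝒞] {A : 𝒞ᵒᵖ ⥤ CommRingCat.{u}}

/-- the presheaf of rings as a presheaf of modules -/
def unit (A : 𝒞ᵒᵖ ⥤ CommRingCat.{u}) : PM.{u} A where
  obj z := A.obj (op z)
  grp _ := inferInstance
  mod _ := inferInstance
  map φ := (rg A φ).toAddMonoidHom
  map_smul φ r m := (rg A φ).map_mul r m
  map_id z m := by
    change rg A (𝟙 z) m = m
    rw [rg_id]
    rfl
  map_comp ψ φ m := rg_comp_apply A ψ φ m

theorem unit_cart (A : 𝒞ᵒᵖ ⥤ CommRingCat.{u}) : (unit A).Cart := fun _ _ φ => isBC_self (rg A φ)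

/-- powers -/
def pow (K : PM.{w₁} A) (n : ℕ) : PM.{w₁} A where
  obj z := Fin n → K.obj z
  grp _ := inferInstance
  mod _ := inferInstance
  map φ := { toFun := fun m i => K.map φ (m i)
             map_zero' := funext fun _ => map_zero _
             map_add' := fun _ _ => funext fun _ => map_add _ _ _ }
  map_smul φ r m := funext fun i => K.map_smul φ r (m i)
  map_id z m := funext fun i => K.map_id z (m i)
  map_comp ψ φ m := funext fun i => K.map_comp ψ φ (m i)

theorem pow_cart {K : PM.{w₁} A} (h : K.Cart) (n : ℕ) : (pow K n).Cart := fun _ _ φ => isBC_pi (h φ) n fun _ _ => rfl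

/-- products -/
def prod (K : PM.{w₁} A) (L : PM.{w₂} A) : PM.{max w₁ w₂} A where
  obj z := K.obj z × L.obj z
  grp _ := inferInstance
  mod _ := inferInstance
  map φ := (K.map φ).prodMap (L.map φ)
  map_smul φ r m := Prod.ext (K.map_smul φ r m.1) (L.map_smul φ r m.2)
  map_id z m := Prod.ext (K.map_id z m.1) (L.map_id z m.2)
  map_comp ψ φ m := Prod.ext (K.map_comp ψ φ m.1) (L.map_comp ψ φ m.2)

theorem prod_cart {K : PM.{w₁} A} {L : PM.{w₂} A} (h : K.Cart) (h' : L.Cart) : (prod K L).Cart := fun _ _ φ => isBC_prod (h φ) (h' φ)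

/-- stable families of submodules -/
def sub (G : PM.{w₁} A) (L : ∀ z, Submodule (A.obj (op z)) (G.obj z))
    (h : ∀ ⦃x z : 𝒞⦄ (φ : x ⟶ z) (m : G.obj z), m ∈ L z → G.map φ m ∈ L x) : PM.{w₁} A where
  obj z := L z
  grp _ := inferInstance
  mod _ := inferInstance
  map φ := { toFun := fun m => ⟨G.map φ m.1, h φ m.1 m.2⟩
             map_zero' := Subtype.ext (map_zero _)
             map_add' := fun _ _ => Subtype.ext (map_add _ _ _) }
  map_smul φ r m := Subtype.ext (G.map_smul φ r m.1)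
  map_id z m := Subtype.ext (G.map_id z m.1)
  map_comp ψ φ m := Subtype.ext (G.map_comp ψ φ m.1)

/-- kernels are cartesian along flat arrows -/
theorem sub_flatCart {G : PM.{w₁} A} (hG : G.FlatCart) (L : ∀ z, Submodule (A.obj (op z)) (G.obj z))
    (h : ∀ ⦃x z : 𝒞⦄ (φ : x ⟶ z) (m : G.obj z), m ∈ L z → G.map φ m ∈ L x) {Q : PM.{w₂} A} (hQ : Q.FlatCart)
    (d : ∀ z, G.obj z →ₗ[A.obj (op z)] Q.obj z) (hd : ∀ ⦃x z : 𝒞⦄ (φ : x ⟶ z) (m : G.obj z), d x (G.map φ m) =
      Q.map φ (d z m)) (hL : ∀ z m, m ∈ L z ↔ d z m = 0) : (sub G L h).FlatCart := fun x z φ hφ =>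
  IsBC.of_exact hφ (L z).subtype Subtype.val_injective (d z)
    (fun m => by rw [← hL]; exact ⟨fun hm => ⟨⟨m, hm⟩, rfl⟩, fun ⟨k, hk⟩ => hk ▸ k.2⟩)
    (L x).subtype Subtype.val_injective (d x)
    (fun m => by rw [← hL]; exact ⟨fun hm => ⟨⟨m, hm⟩, rfl⟩, fun ⟨k, hk⟩ => hk ▸ k.2⟩) (hG φ hφ) (hQ φ hφ)
    (fun _ => rfl) (hd φ)

/-- products with `x₀` -/
structure PD (A : 𝒞ᵒᵖ ⥤ CommRingCat.{u}) (x₀ : 𝒞) where
  w : 𝒞 → 𝒞
  π : ∀ z, w z ⟶ z
  b : ∀ z, w z ⟶ x₀
  lift : ∀ {y z : 𝒞} (_ : y ⟶ z) (_ : y ⟶ x₀), y ⟶ w z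
  lift_π : ∀ {y z : 𝒞} (f : y ⟶ z) (g : y ⟶ x₀), lift f g ≫ π z = f
  lift_b : ∀ {y z : 𝒞} (f : y ⟶ z) (g : y ⟶ x₀), lift f g ≫ b z = g
  ext : ∀ {y z : 𝒞} {l l' : y ⟶ w z}, l ≫ π z = l' ≫ π z → l ≫ b z = l' ≫ b z → l = l'
  ff : ∀ z, FF A (π z)
  po : ∀ {x z : 𝒞} (φ : x ⟶ z) (ψ : w x ⟶ w z), ψ ≫ π z = π x ≫ φ → ψ ≫ b z = b x →
    IsPO (rg A φ) (rg A (π z)) (rg A (π x)) (rg A ψ)

namespace PD

variable {x₀ : 𝒞} (D : PD A x₀)

/-- functoriality -/
def wm {x z : 𝒞} (φ : x ⟶ z) : D.w x ⟶ D.w z := D.lift (D.π x ≫ φ) (D.b x)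

theorem wm_π {x z : 𝒞} (φ : x ⟶ z) : D.wm φ ≫ D.π z = D.π x ≫ φ := D.lift_π _ _

theorem wm_b {x z : 𝒞} (φ : x ⟶ z) : D.wm φ ≫ D.b z = D.b x := D.lift_b _ _

theorem wm_id (z : 𝒞) : D.wm (𝟙 z) = 𝟙 (D.w z) := D.ext (by rw [D.wm_π]; simp) (by rw [D.wm_b]; simp)

theorem wm_comp {y x z : 𝒞} (ψ : y ⟶ x) (φ : x ⟶ z) : D.wm (ψ ≫ φ) = D.wm ψ ≫ D.wm φ :=
  D.ext (by rw [D.wm_π, Category.assoc, D.wm_π, ← Category.assoc (D.wm ψ), D.wm_π, Category.assoc])
    (by rw [D.wm_b, Category.assoc, D.wm_b, D.wm_b])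

theorem po' {x z : 𝒞} (φ : x ⟶ z) : IsPO (rg A φ) (rg A (D.π z)) (rg A (D.π x)) (rg A (D.wm φ)) :=
  D.po φ _ (D.wm_π φ) (D.wm_b φ)

/-- both projections of `x₀ × x₀` are faithfully flat -/
theorem ff_b : FF A (D.b x₀) := by
  let σ : D.w x₀ ⟶ D.w x₀ := D.lift (D.b x₀) (D.π x₀)
  have h1 : σ ≫ D.π x₀ = D.b x₀ := D.lift_π _ _
  have h2 : σ ≫ D.b x₀ = D.π x₀ := D.lift_b _ _
  have h3 : σ ≫ σ = 𝟙 _ := D.ext (by rw [Category.assoc, h1, h2, Category.id_comp])
    (by rw [Category.assoc, h2, h1, Category.id_comp])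
  have h4 : (rg A σ).comp (rg A σ) = RingHom.id _ := by rw [← rg_comp, h3, rg_id]
  have h5 : FF A σ := RingHom.FaithfullyFlat.of_bijective (Function.bijective_iff_has_inverse.2
    ⟨rg A σ, fun a => RingHom.congr_fun h4 a, fun a => RingHom.congr_fun h4 a⟩)
  rw [← h1]
  exact h5.comp (D.ff x₀)

/-- pushforward of the restriction to `x₀` -/
def push (K : PM.{w₁} A) : PM.{w₁} A where
  obj z := K.obj (D.w z)
  grp _ := inferInstance
  mod z := Module.compHom (K.obj (D.w z)) (rg A (D.π z))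
  map φ := K.map (D.wm φ)
  map_smul {x z} φ r m := by
    change K.map (D.wm φ) (rg A (D.π z) r • m) = rg A (D.π x) (rg A φ r) • K.map (D.wm φ) m
    rw [K.map_smul, ← rg_comp_apply, ← rg_comp_apply, D.wm_π]
  map_id z m := by rw [D.wm_id, K.map_id]
  map_comp ψ φ m := by rw [D.wm_comp, K.map_comp]

theorem push_cart {K : PM.{w₁} A} (hK : K.Cart) : (D.push K).Cart := fun x z φ => by
  letI i1 : Module (A.obj (op (D.w z))) ((D.push K).obj z) := K.mod (D.w z)
  letI i2 : Module (A.obj (op (D.w x))) ((D.push K).obj x) := K.mod (D.w x)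
  exact IsBC.of_po (D.po' φ) (fun _ _ => rfl) (fun _ _ => rfl) (hK (D.wm φ))

variable {G : PM.{w₁} A} (N : Submodule (A.obj (op x₀)) (G.obj x₀))

/-- the span of `b^* N` -/
def spn (z : 𝒞) : Submodule (A.obj (op (D.w z))) (G.obj (D.w z)) :=
  Submodule.span _ (G.map (D.b z) '' N)

theorem map_mem_spn {x z : 𝒞} (φ : x ⟶ z) {m : G.obj (D.w z)} (hm : m ∈ D.spn N z) :
    G.map (D.wm φ) m ∈ D.spn N x := by
  have h1 : G.map (D.wm φ) m ∈ Submodule.span (A.obj (op (D.w x)))
      (G.map (D.wm φ) '' (D.spn N z : Submodule (A.obj (op (D.w z))) (G.obj (D.w z)))) :=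
    Submodule.subset_span ⟨m, hm, rfl⟩
  rw [spn, span_image_span (G.map (D.wm φ)) (G.map_smul (D.wm φ))] at h1
  refine Submodule.span_mono ?_ h1
  rintro _ ⟨_, ⟨n, hn, rfl⟩, rfl⟩
  exact ⟨n, hn, by rw [← D.wm_b φ, G.map_comp]⟩

theorem spn_eq {x z : 𝒞} (φ : x ⟶ z) : D.spn N x = Submodule.span _
    (G.map (D.wm φ) '' (D.spn N z : Submodule (A.obj (op (D.w z))) (G.obj (D.w z)))) := by
  rw [spn, spn, span_image_span (G.map (D.wm φ)) (G.map_smul (D.wm φ)), Set.image_image]
  congr 1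
  ext m
  constructor
  · rintro ⟨n, hn, rfl⟩
    refine ⟨n, hn, ?_⟩
    change G.map (D.wm φ) (G.map (D.b z) n) = _
    rw [← G.map_comp, D.wm_b]
  · rintro ⟨n, hn, rfl⟩
    refine ⟨n, hn, ?_⟩
    change _ = G.map (D.wm φ) (G.map (D.b z) n)
    rw [← G.map_comp, D.wm_b]

/-- the quotient `u_* (u^* G / N)` -/
noncomputable def quot : PM.{w₁} A where
  obj z := G.obj (D.w z) ⧸ D.spn N z
  grp _ := inferInstance
  mod z := Module.compHom (G.obj (D.w z) ⧸ D.spn N z) (rg A (D.π z))
  map {x z} φ := QuotientAddGroup.map (D.spn N z).toAddSubgroup (D.spn N x).toAddSubgroup (G.map (D.wm φ))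
    fun _ hm => D.map_mem_spn N φ hm
  map_smul {x z} φ r m := by
    induction m using Submodule.Quotient.induction_on with
    | H m =>
      change Submodule.Quotient.mk (G.map (D.wm φ) (rg A (D.π z) r • m)) =
        rg A (D.π x) (rg A φ r) • (Submodule.Quotient.mk (G.map (D.wm φ) m) : G.obj (D.w x) ⧸ D.spn N x)
      rw [G.map_smul, ← rg_comp_apply, ← rg_comp_apply, D.wm_π, Submodule.Quotient.mk_smul]
  map_id z m := by
    induction m using Submodule.Quotient.induction_on with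
    | H m =>
      change Submodule.Quotient.mk (G.map (D.wm (𝟙 z)) m) = Submodule.Quotient.mk m
      rw [D.wm_id, G.map_id]
  map_comp {y x z} ψ φ m := by
    induction m using Submodule.Quotient.induction_on with
    | H m =>
      change (Submodule.Quotient.mk (G.map (D.wm (ψ ≫ φ)) m) : G.obj (D.w y) ⧸ D.spn N y) =
        Submodule.Quotient.mk (G.map (D.wm ψ) (G.map (D.wm φ) m))
      rw [D.wm_comp, G.map_comp]

theorem quot_cart (hG : G.Cart) : (D.quot N).Cart := fun x z φ => by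
  letI i1 : Module (A.obj (op (D.w z))) ((D.quot N).obj z) :=
    inferInstanceAs (Module (A.obj (op (D.w z))) (G.obj (D.w z) ⧸ D.spn N z))
  letI i2 : Module (A.obj (op (D.w x))) ((D.quot N).obj x) :=
    inferInstanceAs (Module (A.obj (op (D.w x))) (G.obj (D.w x) ⧸ D.spn N x))
  exact IsBC.of_po (D.po' φ) (fun _ _ => rfl) (fun _ _ => rfl)
    (isBC_quot (hG (D.wm φ)) (D.spn N z) (D.spn N x) (D.spn_eq N φ) _ fun _ => rfl)

/-- the comparison map `G ⟶ u_* (u^* G / N)` -/
noncomputable def toQuot (z : 𝒞) : G.obj z →ₗ[A.obj (op z)] (D.quot N).obj z where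
  toFun m := Submodule.Quotient.mk (G.map (D.π z) m)
  map_add' a b := by
    rw [map_add]
    rfl
  map_smul' r a := by
    rw [G.map_smul]
    rfl

theorem toQuot_eq_zero {z : 𝒞} {m : G.obj z} : D.toQuot N z m = 0 ↔ G.map (D.π z) m ∈ D.spn N z :=
  Submodule.Quotient.mk_eq_zero _

theorem toQuot_map {x z : 𝒞} (φ : x ⟶ z) (m : G.obj z) :
    D.toQuot N x (G.map φ m) = (D.quot N).map φ (D.toQuot N z m) := by
  change (Submodule.Quotient.mk (G.map (D.π x) (G.map φ m)) : G.obj (D.w x) ⧸ D.spn N x) =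
    Submodule.Quotient.mk (G.map (D.wm φ) (G.map (D.π z) m))
  rw [← G.map_comp, ← G.map_comp, D.wm_π]

/-- the largest submodule with value in `N` at `x₀` -/
noncomputable def subN : PM.{w₁} A := sub G (fun z => LinearMap.ker (D.toQuot N z)) fun x z φ m hm => by
  rw [LinearMap.mem_ker] at hm ⊢
  rw [D.toQuot_map, hm, map_zero]

theorem subN_flatCart (hG : G.Cart) : (D.subN N).FlatCart :=
  sub_flatCart hG.flatCart _ _ (D.quot_cart N hG).flatCart (D.toQuot N) (fun _ _ φ m => D.toQuot_map N φ m) fun _ _ => LinearMap.mem_ker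

/-- the inclusion -/
noncomputable def incl (z : 𝒞) : (D.subN N).obj z →ₗ[A.obj (op z)] G.obj z :=
  (LinearMap.ker (D.toQuot N z)).subtype

theorem incl_injective (z : 𝒞) : Function.Injective (D.incl N z) := Subtype.val_injective

theorem incl_map {x z : 𝒞} (φ : x ⟶ z) (m : (D.subN N).obj z) :
    D.incl N x ((D.subN N).map φ m) = G.map φ (D.incl N z m) := rfl

theorem mem_range_incl {z : 𝒞} {m : G.obj z} :
    m ∈ LinearMap.range (D.incl N z) ↔ G.map (D.π z) m ∈ D.spn N z := by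
  rw [← D.toQuot_eq_zero]
  exact ⟨fun ⟨k, hk⟩ => hk ▸ LinearMap.mem_ker.1 k.2, fun h => ⟨⟨m, LinearMap.mem_ker.2 h⟩, rfl⟩⟩

/-- the value at `x₀` is contained in `N` -/
theorem range_incl_le : LinearMap.range (D.incl N x₀) ≤ N := by
  intro m hm
  rw [mem_range_incl] at hm
  have h1 : ∀ e ∈ D.spn N x₀, G.map (D.lift (𝟙 x₀) (𝟙 x₀)) e ∈ N := by
    intro e he
    rw [spn] at he
    induction he using Submodule.span_induction with
    | mem x h =>
      obtain ⟨n, hn, rfl⟩ := h
      rw [← G.map_comp, D.lift_b, G.map_id]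
      exact hn
    | zero => rw [map_zero]; exact N.zero_mem
    | add x y _ _ hx hy => rw [map_add]; exact N.add_mem hx hy
    | smul a x _ hx => rw [G.map_smul]; exact N.smul_mem _ hx
  have h2 := h1 _ hm
  rwa [← G.map_comp, D.lift_π, G.map_id] at h2

/-- linear combinations of the restrictions -/
noncomputable def act {n : ℕ} (M : PM.{w₁} A) (m : Fin n → M.obj x₀) (z : 𝒞) (c : Fin n → A.obj (op (D.w z))) :
    M.obj (D.w z) := ∑ j, c j • M.map (D.b z) (m j)

theorem act_add {n : ℕ} (M : PM.{w₁} A) (m : Fin n → M.obj x₀) (z : 𝒞) (c d : Fin n → A.obj (op (D.w z))) :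
    D.act M m z (c + d) = D.act M m z c + D.act M m z d := by
  simp only [act, Pi.add_apply, add_smul, Finset.sum_add_distrib]

theorem act_smul {n : ℕ} (M : PM.{w₁} A) (m : Fin n → M.obj x₀) (z : 𝒞) (r : A.obj (op (D.w z)))
    (c : Fin n → A.obj (op (D.w z))) : D.act M m z (fun i => r * c i) = r • D.act M m z c := by
  simp only [act, Finset.smul_sum, mul_smul]

theorem act_map {n : ℕ} (M : PM.{w₁} A) (m : Fin n → M.obj x₀) {x z : 𝒞} (φ : x ⟶ z)
    (c : Fin n → A.obj (op (D.w z))) :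
    D.act M m x (fun i => rg A (D.wm φ) (c i)) = M.map (D.wm φ) (D.act M m z c) := by
  rw [act, act, map_sum]
  refine Finset.sum_congr rfl fun j _ => ?_
  rw [M.map_smul, ← M.map_comp, D.wm_b]

/-- the relations: pairs `(x, c)` with `π^* x = ∑ c_j b^* m_j` -/
noncomputable def rel {n : ℕ} (M : PM.{w₁} A) (m : Fin n → M.obj x₀) (z : 𝒞) :
    (prod M (D.push (pow (unit A) n))).obj z →ₗ[A.obj (op z)] (D.push M).obj z where
  toFun x := M.map (D.π z) x.1 - D.act M m z x.2
  map_add' x y := by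
    change M.map (D.π z) (x.1 + y.1) - D.act M m z (x.2 + y.2) = (M.map (D.π z) x.1 - D.act M m z x.2) +
        (M.map (D.π z) y.1 - D.act M m z y.2)
    rw [map_add, act_add]
    abel
  map_smul' r x := (congrArg₂ (· - ·) (M.map_smul (D.π z) r x.1) (D.act_smul M m z (rg A (D.π z) r) x.2)).trans
    (smul_sub (rg A (D.π z) r) (M.map (D.π z) x.1) (D.act M m z x.2)).symm

theorem rel_map {n : ℕ} (M : PM.{w₁} A) (m : Fin n → M.obj x₀) ⦃x z : 𝒞⦄ (φ : x ⟶ z)
    (v : (prod M (D.push (pow (unit A) n))).obj z) :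
    D.rel M m x ((prod M (D.push (pow (unit A) n))).map φ v) = (D.push M).map φ (D.rel M m z v) := by
  change M.map (D.π x) (M.map φ v.1) - D.act M m x (fun i => rg A (D.wm φ) (v.2 i)) =
    M.map (D.wm φ) (M.map (D.π z) v.1 - D.act M m z v.2)
  rw [map_sub, ← M.map_comp, ← M.map_comp, D.wm_π, act_map]

/-- the module of relations -/
noncomputable def relPM {n : ℕ} (M : PM.{w₁} A) (m : Fin n → M.obj x₀) : PM.{max w₁ u} A :=
  sub (prod M (D.push (pow (unit A) n))) (fun z => LinearMap.ker (D.rel M m z)) fun x z φ v hv => by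
    rw [LinearMap.mem_ker] at hv ⊢
    rw [D.rel_map, hv, map_zero]

theorem relPM_flatCart {n : ℕ} {M : PM.{w₁} A} (hM : M.Cart) (m : Fin n → M.obj x₀) : (D.relPM M m).FlatCart :=
  sub_flatCart (prod_cart hM (D.push_cart (pow_cart (unit_cart A) n))).flatCart _ _ (D.push_cart hM).flatCart
    (D.rel M m) (fun _ _ φ v => D.rel_map M m φ v) fun _ _ => LinearMap.mem_ker

include D in
/-- **Main lemma**: over a noetherian base over which submodules of flat modules are flat, elements of a cartesian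
module come from a cartesian module with finitely generated flat value at `x₀`. -/
theorem exists_fg_flat [IsNoetherianRing (A.obj (op x₀))]
    (hfl : ∀ (K : Type u) [AddCommGroup K] [Module (A.obj (op x₀)) K] [Module.Flat (A.obj (op x₀)) K]
      (L : Submodule (A.obj (op x₀)) K), Module.Flat (A.obj (op x₀)) L)
    {M : PM.{w₁} A} (hM : M.Cart) {l : ℕ} (y : Fin l → M.obj x₀) :
    ∃ (E : PM.{max w₁ u} A) (q : ∀ z, E.obj z →ₗ[A.obj (op z)] M.obj z), E.FlatCart ∧
      (∀ ⦃x z : 𝒞⦄ (φ : x ⟶ z) (e : E.obj z), q x (E.map φ e) = M.map φ (q z e)) ∧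
      Module.Finite (A.obj (op x₀)) (E.obj x₀) ∧ Module.Flat (A.obj (op x₀)) (E.obj x₀) ∧
      ∀ k, ∃ e, q x₀ e = y k := by
  have ht : Fl A (D.b x₀) := D.ff_b.fl
  have h1 : ∀ k, M.map (D.π x₀) (y k) ∈ Submodule.span (A.obj (op (D.w x₀)))
      (M.map (D.b x₀) '' ((⊤ : Submodule (A.obj (op x₀)) (M.obj x₀)) : Set (M.obj x₀))) := by
    intro k
    rw [Submodule.top_coe, Set.image_univ, (hM (D.b x₀)).span_range]
    exact Submodule.mem_top
  obtain ⟨L, -, ⟨S, hS⟩, h2⟩ := exists_fg_of_mem_span_family (M.map (D.b x₀)) ⊤ _ h1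
  let e := S.equivFin
  let m : Fin S.card → M.obj x₀ := fun j => (e.symm j : M.obj x₀)
  have hm : Submodule.span (A.obj (op x₀)) (Set.range m) = L := by
    rw [← hS]
    congr 1
    ext v
    constructor
    · rintro ⟨j, rfl⟩
      exact (e.symm j).2
    · intro hv
      exact ⟨e ⟨v, hv⟩, by change ((e.symm (e ⟨v, hv⟩) : S) : M.obj x₀) = v; rw [e.symm_apply_apply]⟩
  have h3 : ∀ k, ∃ c : Fin S.card → A.obj (op (D.w x₀)), ∑ j, c j • M.map (D.b x₀) (m j) = M.map (D.π x₀) (y k) := by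
    intro k
    have h4 := h2 k
    rw [← hm, span_image_span (M.map (D.b x₀)) (M.map_smul (D.b x₀)), ← Set.range_comp] at h4
    exact (Submodule.mem_span_range_iff_exists_fun _).1 h4
  choose c hc using h3
  have hP := D.relPM_flatCart hM m
  let p : Fin l → (D.relPM M m).obj x₀ := fun k => ⟨(y k, c k), by
    rw [LinearMap.mem_ker]
    change M.map (D.π x₀) (y k) - D.act M m x₀ (c k) = 0
    rw [act, hc, sub_self]⟩
  have h5 : ∀ k, (D.relPM M m).map (D.π x₀) (p k) ∈ Submodule.span (A.obj (op (D.w x₀)))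
      ((D.relPM M m).map (D.b x₀) ''
        ((⊤ : Submodule (A.obj (op x₀)) ((D.relPM M m).obj x₀)) : Set ((D.relPM M m).obj x₀))) := by
    intro k
    rw [Submodule.top_coe, Set.image_univ, (hP (D.b x₀) ht).span_range]
    exact Submodule.mem_top
  obtain ⟨N, -, hN, h6⟩ := exists_fg_of_mem_span_family ((D.relPM M m).map (D.b x₀)) ⊤ _ h5
  let G : PM.{max w₁ u} A := prod M (D.push (pow (unit A) S.card))
  have hG : G.Cart := prod_cart hM (D.push_cart (pow_cart (unit_cart A) S.card))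
  let ι : ∀ z, (D.relPM M m).obj z →ₗ[A.obj (op z)] G.obj z := fun z => (LinearMap.ker (D.rel M m z)).subtype
  let N' : Submodule (A.obj (op x₀)) (G.obj x₀) := N.map (ι x₀)
  have hN' : N'.FG := hN.map _
  let E := D.subN (G := G) N'
  let q : ∀ z, E.obj z →ₗ[A.obj (op z)] M.obj z := fun z =>
    (LinearMap.fst (A.obj (op z)) (M.obj z) ((D.push (pow (unit A) S.card)).obj z)).comp (D.incl N' z)
  have hle : ∀ e : E.obj x₀, D.incl N' x₀ e ∈ N' := fun e => D.range_incl_le N' ⟨e, rfl⟩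
  refine ⟨E, q, D.subN_flatCart N' hG, fun x z φ e => rfl, ?_, ?_, fun k => ?_⟩
  · haveI : Module.Finite (A.obj (op x₀)) N' := Module.Finite.iff_fg.2 hN'
    haveI : IsNoetherian (A.obj (op x₀)) N' := isNoetherian_of_isNoetherianRing_of_finite _ _
    exact Module.Finite.of_injective ((D.incl N' x₀).codRestrict N' hle) fun a b hab =>
      D.incl_injective N' x₀ (show (((D.incl N' x₀).codRestrict N' hle a : N') : G.obj x₀) = _ from
        congrArg (fun v : N' => (v : G.obj x₀)) hab)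
  · letI i1 : Module (A.obj (op x₀)) (A.obj (op (D.w x₀))) := Module.compHom _ (rg A (D.π x₀))
    haveI i2 : Module.Flat (A.obj (op x₀)) (A.obj (op (D.w x₀))) := (D.ff x₀).fl
    haveI i3 : Module.Flat (A.obj (op x₀)) (Fin S.card → A.obj (op (D.w x₀))) :=
      Module.Flat.of_linearEquiv
        (DirectSum.linearEquivFunOnFintype (A.obj (op x₀)) (Fin S.card) (fun _ => A.obj (op (D.w x₀)))).symm
    let r : E.obj x₀ →ₗ[A.obj (op x₀)] (Fin S.card → A.obj (op (D.w x₀))) :=
      { toFun := fun e => (D.incl N' x₀ e).2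
        map_add' := fun a b => rfl
        map_smul' := fun a b => rfl }
    have hr : Function.Injective r := by
      rw [← LinearMap.ker_eq_bot, LinearMap.ker_eq_bot']
      intro e he
      have h7 : (D.incl N' x₀ e).2 = 0 := he
      obtain ⟨n, hn, hn'⟩ := hle e
      have h8 : D.rel M m x₀ (D.incl N' x₀ e) = 0 := by
        rw [← hn']
        exact LinearMap.mem_ker.1 n.2
      have h9 : M.map (D.π x₀) (D.incl N' x₀ e).1 - D.act M m x₀ (D.incl N' x₀ e).2 = 0 := h8
      rw [h7] at h9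
      have h10 : D.act M m x₀ 0 = 0 := by
        simp only [act, Pi.zero_apply, zero_smul, Finset.sum_const_zero]
      have h11 : M.map (D.π x₀) (D.incl N' x₀ e).1 = 0 := by
        rw [← h9]
        exact ((congrArg _ h10).trans (sub_zero _)).symm
      have h12 : (D.incl N' x₀ e).1 = 0 := hM.flatCart.injective (D.ff x₀) (h11.trans (map_zero _).symm)
      apply D.incl_injective N' x₀
      rw [map_zero]
      exact Prod.ext h12 h7
    haveI := hfl (Fin S.card → A.obj (op (D.w x₀))) (LinearMap.range r)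
    exact Module.Flat.of_linearEquiv (LinearEquiv.ofInjective r hr)
  · have h7 : G.map (D.π x₀) (p k).1 ∈ D.spn N' x₀ := by
      have h8 : ι _ ((D.relPM M m).map (D.π x₀) (p k)) ∈ Submodule.map (ι _) (Submodule.span (A.obj (op (D.w x₀)))
        ((D.relPM M m).map (D.b x₀) '' (N : Set ((D.relPM M m).obj x₀)))) := Submodule.mem_map_of_mem (h6 k)
      rw [Submodule.map_span] at h8
      refine Submodule.span_mono ?_ h8
      rintro _ ⟨_, ⟨n, hn, rfl⟩, rfl⟩
      exact ⟨ι _ n, Submodule.mem_map_of_mem hn, rfl⟩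
    exact ⟨⟨(p k).1, LinearMap.mem_ker.2 ((D.toQuot_eq_zero N').2 h7)⟩, rfl⟩

end PD

end PMs

end K741.RP
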